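import Cfsg.Prelude.Def_GeometricClasses
import Cfsg.Agent.H925.OrthNot
import Cfsg.Agent.H924.POne
import Cfsg.Agent.H924.Reduc
set_option linter.all false

/-!
# Even-dimensional orthogonal end-game, part A: basics (helper926)

* `hermForm_polar` : the polar form as a `HermForm`;
* `even_of_alt` : an alternating nondegenerate form lives in even dimension, any characteristic;
* `even_on` : a subspace on which a form with `f v v = 0` is nondegenerate has even dimension;
* `sing_or_line` : in characteristic two, an invariant totally isotropic subspace contains an invariant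
  nonzero totally singular subspace or is the line of a nonsingular vector.
-/

set_option autoImplicit false
set_option linter.unusedSectionVars false

namespace Cfsg.Agent.H926

open QuadraticMap Matrix Cfsg.Geo
open Cfsg.Agent.LieClassical.OrthCore Cfsg.Agent.LieClassical.OrthTrans Cfsg.Agent.LieClassical.OrthFinite
open Cfsg.Agent.H919

variable {ι : Type} [Fintype ι] [DecidableEq ι] {F : Type*} [Field F]

/-- The polar form is a symmetric `HermForm`. -/
theorem hermForm_polar {Q : (ι → F) → F} (hQ : IsNondegenerateQuadraticForm Q) :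
    HermForm (RingEquiv.refl F) 1 (polar Q) where
  add_left := hQ.polar_bilinear.add_left
  smul_left := hQ.polar_bilinear.smul_left
  sigma_sq _ := rfl
  eps := by simp
  herm v w := by rw [one_mul]; exact polar_comm Q v w
  nondegenerate := hQ.nondegenerate

theorem polar_iso {Q : (ι → F) → F} {g : GL ι F} (hg : g ∈ Cfsg.isometryGroup F Q) (u v : ι → F) :
    polar Q ((g : Matrix ι ι F) *ᵥ u) ((g : Matrix ι ι F) *ᵥ v) = polar Q u v := by
  have h := H925.mem_iso_iff.1 hg
  simp only [polar, ← Matrix.mulVec_add, h]

section alt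

variable {K V : Type*} [Field K] [AddCommGroup V] [Module K V]

/-- An alternating nondegenerate form lives in even dimension, any characteristic. -/
theorem even_of_alt : ∀ (n : ℕ) (V : Type _) [AddCommGroup V] [Module K V] [FiniteDimensional K V]
    (_ : Module.finrank K V = n) (B : LinearMap.BilinForm K V) (_ : ∀ v, B v v = 0)
    (_ : ∀ v, (∀ w, B v w = 0) → v = 0), Even n := by
  intro n
  induction n using Nat.strong_induction_on with
  | _ n ih =>
    intro V _ _ _ hV B halt hn
    have hskew : ∀ v w, B v w = - B w v := by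
      intro v w
      have := halt (v + w)
      simp only [map_add, LinearMap.add_apply, halt, zero_add, add_zero] at this
      linear_combination this
    by_cases h0 : n = 0
    · rw [h0]; exact Even.zero
    have : Nontrivial V := Module.nontrivial_of_finrank_pos (R := K) (by omega)
    obtain ⟨v, hv⟩ := exists_ne (0 : V)
    obtain ⟨w, hw⟩ : ∃ w, B v w ≠ 0 := by
      by_contra hc
      push Not at hc
      exact hv (hn v hc)
    -- the orthogonal complement of `v, w`
    let U : Submodule K V := LinearMap.ker (B v) ⊓ LinearMap.ker (B w)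
    have hdec : ∀ x : V, x - (B v w)⁻¹ • (B v x • w - B w x • v) ∈ U := by
      intro x
      have hwv : B w v = - B v w := hskew w v
      refine ⟨LinearMap.mem_ker.2 ?_, LinearMap.mem_ker.2 ?_⟩
      · simp only [map_sub, map_smul, halt, smul_eq_mul]
        field_simp
        ring
      · simp only [map_sub, map_smul, halt, smul_eq_mul, hwv]
        field_simp
        ring
    have hfr : Module.finrank K U + 2 = n := by
      let φ : V →ₗ[K] (Fin 2 → K) := LinearMap.pi ![B v, B w]
      have hker : LinearMap.ker φ = U := by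
        ext x
        simp only [U, Submodule.mem_inf, LinearMap.mem_ker, φ]
        constructor
        · intro h
          exact ⟨congrFun h 0, congrFun h 1⟩
        · rintro ⟨h1, h2⟩
          funext i
          fin_cases i
          · exact h1
          · exact h2
      have hrange : LinearMap.range φ = ⊤ := by
        rw [LinearMap.range_eq_top]
        intro y
        refine ⟨(B v w)⁻¹ • (y 0 • w - y 1 • v), ?_⟩
        have hwv : B w v = - B v w := hskew w v
        funext i
        fin_cases i
        · show B v _ = y 0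
          simp only [map_smul, map_sub, halt, smul_eq_mul]
          field_simp
          ring
        · show B w _ = y 1
          simp only [map_smul, map_sub, halt, smul_eq_mul, hwv]
          field_simp
          ring
      have h1 := LinearMap.finrank_range_add_finrank_ker φ
      rw [hrange, hker, finrank_top, Module.finrank_fin_fun, hV] at h1
      omega
    have hB' := ih (Module.finrank K U) (by omega) U rfl (B.restrict U) (fun x => halt x) (by
      intro x hx
      apply Subtype.ext
      apply hn x
      intro y
      have hx' : B x (y - (B v w)⁻¹ • (B v y • w - B w y • v)) = 0 := hx ⟨_, hdec y⟩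
      have h1 : B x v = 0 := by rw [hskew, LinearMap.mem_ker.1 x.2.1, neg_zero]
      have h2 : B x w = 0 := by rw [hskew, LinearMap.mem_ker.1 x.2.2, neg_zero]
      simp only [map_sub, map_smul, h1, h2, smul_zero, sub_zero] at hx'
      exact hx')
    obtain ⟨k, hk⟩ := hB'
    exact ⟨k + 1, by omega⟩

end alt

/-- A subspace on which a bilinear form with `f v v = 0` is nondegenerate has even dimension. -/
theorem even_on {f : (ι → F) → (ι → F) → F} (hf : IsBilinearForm f) (W : Submodule F (ι → F))
    (halt : ∀ v ∈ W, f v v = 0) (hW : IsNondegenerateOn f W) : Even (Module.finrank F W) := by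
  let B : LinearMap.BilinForm F W := LinearMap.mk₂ F (fun x y => f x y)
    (fun x y z => hf.add_left _ _ _) (fun c x y => hf.smul_left _ _ _) (fun x y z => hf.add_right _ _ _)
    (fun c x y => hf.smul_right _ _ _)
  refine even_of_alt _ W rfl B (fun v => halt v v.2) (fun v hv => ?_)
  by_contra h
  obtain ⟨x, hx, hne⟩ := (hW v v.2 (fun h0 => h (Subtype.ext h0))).2
  exact hne (hv ⟨x, hx⟩)

theorem card_even_iff_two_eq_zero [Fintype F] : ¬ Odd (Fintype.card F) ↔ (2 : F) = 0 := by
  rw [Nat.not_odd_iff_even]
  constructor
  · intro h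
    have h2 : ringChar F = 2 := FiniteField.even_card_iff_char_two.2 (Nat.even_iff.1 h)
    have : ((ringChar F : ℕ) : F) = 0 := ringChar.Nat.cast_ringChar
    rw [h2] at this
    exact_mod_cast this
  · intro h
    have h2 : ringChar F = 2 := by
      have h3 : (ringChar F) ∣ 2 := (ringChar.spec F 2).1 (by exact_mod_cast h)
      rcases (Nat.dvd_prime Nat.prime_two).1 h3 with h4 | h4
      · exact absurd h4 (CharP.ringChar_ne_one (R := F))
      · exact h4
    exact Nat.even_iff.2 (FiniteField.even_card_iff_char_two.1 h2)

theorem polar_self_two {Q : (ι → F) → F} (hQ : IsNondegenerateQuadraticForm Q) (v : ι → F) :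
    polar Q v v = 2 * Q v := Cfsg.Agent.LieClassical.OrthCore.polar_self' (Q := H925.qf hQ) v

theorem Q_add' (Q : (ι → F) → F) (x y : ι → F) : Q (x + y) = Q x + Q y + polar Q x y := by
  simp only [polar]; ring

theorem Q_zero {Q : (ι → F) → F} (hQ : IsNondegenerateQuadraticForm Q) : Q 0 = 0 := by
  have := hQ.smul 0 0
  simpa using this

theorem neg_eq_of_two {x : F} (h2 : (2 : F) = 0) : -x = x := by
  linear_combination -x * h2

/-- A square root in a finite field of characteristic two. -/
theorem exists_sq [Finite F] (h2 : (2 : F) = 0) (a : F) : ∃ c : F, c ^ 2 = a := by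
  have := Fintype.ofFinite F
  have hc : ringChar F = 2 := FiniteField.even_card_iff_char_two.2
    (Nat.even_iff.1 (Nat.not_odd_iff_even.1 (card_even_iff_two_eq_zero.2 h2)))
  obtain ⟨c, hc⟩ := FiniteField.isSquare_of_char_two hc a
  exact ⟨c, by rw [hc]; ring⟩

/-- The singular vectors of a totally isotropic subspace, `Q` is semilinear there. -/
def singSub {Q : (ι → F) → F} (hQ : IsNondegenerateQuadraticForm Q) (W : Submodule F (ι → F))
    (hW : IsTotallySingularFor (polar Q) W) : Submodule F (ι → F) where
  carrier := {w | w ∈ W ∧ Q w = 0}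
  add_mem' {x y} hx hy := ⟨W.add_mem hx.1 hy.1, by rw [Q_add' Q, hx.2, hy.2, hW x hx.1 y hy.1]; simp⟩
  zero_mem' := ⟨W.zero_mem, Q_zero hQ⟩
  smul_mem' c x hx := ⟨W.smul_mem c hx.1, by rw [hQ.smul, hx.2, mul_zero]⟩

theorem mem_singSub {Q : (ι → F) → F} (hQ : IsNondegenerateQuadraticForm Q) {W : Submodule F (ι → F)}
    (hW : IsTotallySingularFor (polar Q) W) {w : ι → F} : w ∈ singSub hQ W hW ↔ w ∈ W ∧ Q w = 0 := Iff.rfl

/-- In characteristic two, a totally isotropic subspace without nonzero singular vector is a line. -/
theorem eq_span_of_anisotropic [Finite F] {Q : (ι → F) → F} (hQ : IsNondegenerateQuadraticForm Q) (h2 : (2 : F) = 0)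
    {W : Submodule F (ι → F)} (hW : IsTotallySingularFor (polar Q) W) (hs : ∀ w ∈ W, Q w = 0 → w = 0)
    {v : ι → F} (hv : v ∈ W) (hv0 : v ≠ 0) : W = Submodule.span F {v} := by
  have hQv : Q v ≠ 0 := fun h => hv0 (hs v hv h)
  refine le_antisymm (fun w hw => ?_) ((Submodule.span_singleton_le_iff_mem v W).2 hv)
  obtain ⟨c, hc⟩ := exists_sq h2 (Q w / Q v)
  have h : w - c • v = 0 := by
    apply hs _ (W.sub_mem hw (W.smul_mem c hv))
    have h3 : polar Q w (-(c • v)) = 0 := hW w hw _ (W.neg_mem (W.smul_mem c hv))
    rw [sub_eq_add_neg, Q_add' Q, h3, ← neg_smul, hQ.smul, neg_sq, hc, div_mul_cancel₀ _ hQv]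
    linear_combination (Q w) * h2
  rw [sub_eq_zero.1 h]
  exact Submodule.smul_mem _ c (Submodule.mem_span_singleton_self v)

/-- Invariant totally isotropic subspace: an invariant nonzero totally singular subspace or (characteristic two)
the line of a nonsingular vector. -/
theorem sing_or_line [Finite F] {Q : (ι → F) → F} (hQ : IsNondegenerateQuadraticForm Q)
    {H : Subgroup (GL ι F)} (hH : H ≤ Cfsg.isometryGroup F Q)
    {W : Submodule F (ι → F)} (hW0 : W ≠ ⊥) (hW : IsTotallySingularFor (polar Q) W)
    (hHW : H ≤ subspaceStabilizer W) :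
    (∃ W' : Submodule F (ι → F), W' ≠ ⊥ ∧ IsTotallySingularQuad Q W' ∧ H ≤ subspaceStabilizer W') ∨
    ((2 : F) = 0 ∧ ∃ v, Q v ≠ 0 ∧ H ≤ subspaceStabilizer (Submodule.span F {v})) := by
  by_cases h2 : (2 : F) = 0
  · by_cases hs : ∀ w ∈ W, Q w = 0 → w = 0
    · right
      obtain ⟨v, hv, hv0⟩ := (Submodule.ne_bot_iff W).1 hW0
      refine ⟨h2, v, fun h => hv0 (hs v hv h), ?_⟩
      rwa [← eq_span_of_anisotropic hQ h2 hW hs hv hv0]
    · left
      push Not at hs
      obtain ⟨w, hw, hQw, hw0⟩ := hs
      refine ⟨singSub hQ W hW, (Submodule.ne_bot_iff _).2 ⟨w, ⟨hw, hQw⟩, hw0⟩, fun x hx => hx.2, ?_⟩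
      refine H924.le_subspaceStabilizer (fun h hh x hx => ⟨((hHW hh) x).1 hx.1, ?_⟩)
      rw [H925.mem_iso_iff.1 (hH hh)]
      exact hx.2
  · left
    refine ⟨W, hW0, fun w hw => ?_, hHW⟩
    have := hW w hw w hw
    rw [polar_self_two hQ] at this
    exact (mul_eq_zero.1 this).resolve_left h2

end Cfsg.Agent.H926
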