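import Cfsg.Agent.H926.Split
import Cfsg.Agent.H925.OrthBasic
import Cfsg.Agent.H926.EvenA
set_option linter.all false

-- part: H926/Sub2
section
/-!
# Index-two subfield structures carry only forms of plus type (helper926)

`plusType_of_index_two` : if `|F| = |F₀| ^ 2` and `ζ Q` takes values in `F₀` on the `F₀`-span of the columns of `P`
then `Q` is of plus type (even dimension, every characteristic).
-/

set_option autoImplicit false
set_option linter.unusedSectionVars false

namespace Cfsg.Agent.H926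

open QuadraticMap Matrix
open Cfsg.Agent.LieClassical.OrthCore Cfsg.Agent.LieClassical.OrthTrans Cfsg.Agent.LieClassical.OrthFinite

/-- A quadratic polynomial over a finite field has a root in the quadratic extension. -/
theorem exists_root_quadratic {F : Type*} [Field F] [Finite F] (F₀ : Subfield F)
    (hcard : Nat.card F = Nat.card F₀ ^ 2) (a b c : F₀) (ha : a ≠ 0) :
    ∃ x : F, (a : F) * x ^ 2 + b * x + c = 0 := by
  classical
  let p : Polynomial F₀ := Polynomial.C a * Polynomial.X ^ 2 + Polynomial.C b * Polynomial.X + Polynomial.C c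
  have hdeg : p.natDegree = 2 := Polynomial.natDegree_quadratic ha
  have hp0 : p ≠ 0 := by
    intro h
    rw [h, Polynomial.natDegree_zero] at hdeg
    omega
  have hfin : Module.finrank F₀ F = 2 := by
    have h1 := Module.natCard_eq_pow_finrank (K := F₀) (V := F)
    rw [hcard] at h1
    have h2 : 1 < Nat.card F₀ := Finite.one_lt_card
    exact (Nat.pow_right_injective h2 h1).symm
  -- it suffices to find a root of `p` in `F`
  suffices h : ∃ x : F, Polynomial.aeval x p = 0 by
    obtain ⟨x, hx⟩ := h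
    refine ⟨x, ?_⟩
    simp only [p, map_add, map_mul, map_pow, Polynomial.aeval_C, Polynomial.aeval_X] at hx
    exact hx
  by_cases hirr : Irreducible p
  · have := Fact.mk hirr
    have hfr : Module.finrank F₀ (AdjoinRoot p) = 2 := by
      rw [← hdeg]
      exact (AdjoinRoot.powerBasis hp0).finrank.trans (AdjoinRoot.powerBasis_dim hp0)
    have : Module.Finite F₀ (AdjoinRoot p) := Module.finite_of_finrank_pos (by omega)
    have : Finite (AdjoinRoot p) := Module.finite_of_finite F₀
    obtain ⟨φ⟩ := FiniteField.nonempty_algHom_of_finrank_dvd (F := F₀) (K := AdjoinRoot p) (L := F)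
      (by rw [hfr, hfin])
    refine ⟨φ (AdjoinRoot.root p), ?_⟩
    rw [Polynomial.aeval_algHom_apply, AdjoinRoot.aeval_eq, AdjoinRoot.mk_self, map_zero]
  · -- reducible: a root in the ground field
    obtain ⟨x, hx⟩ : ∃ x : F₀, p.IsRoot x := by
      by_contra hc
      push Not at hc
      exact hirr (((Polynomial.irreducible_iff_roots_eq_zero_of_degree_le_three (by omega) (by omega)).2
        (Multiset.eq_zero_of_forall_notMem (fun x hx => hc x ((Polynomial.mem_roots hp0).1 hx)))))
    refine ⟨(x : F), ?_⟩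
    have : (x : F) = algebraMap F₀ F x := rfl
    rw [this, Polynomial.aeval_algebraMap_apply, Polynomial.coe_aeval_eq_eval, hx, map_zero]

variable {ι : Type} [Fintype ι] [DecidableEq ι] {F : Type*} [Field F]

/-- The embedding of the `F₀`-structure given by `P`. -/
def jmap (F₀ : Subfield F) (P : GL ι F) (u : ι → F₀) : ι → F := (P : Matrix ι ι F) *ᵥ (fun i => (u i : F))

theorem jmap_add (F₀ : Subfield F) (P : GL ι F) (u v : ι → F₀) : jmap F₀ P (u + v) = jmap F₀ P u + jmap F₀ P v := by
  unfold jmap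
  rw [← Matrix.mulVec_add]
  rfl

theorem jmap_smul (F₀ : Subfield F) (P : GL ι F) (c : F₀) (u : ι → F₀) :
    jmap F₀ P (c • u) = (c : F) • jmap F₀ P u := by
  unfold jmap
  rw [← Matrix.mulVec_smul]
  rfl

/-- The form induced on the `F₀`-structure. -/
noncomputable def form0 {Q : (ι → F) → F} (hQ : Geo.IsNondegenerateQuadraticForm Q) {F₀ : Subfield F} {P : GL ι F}
    {ζ : F} (hR : Geo.IsQuadFormRationalStructure (fun v => ζ * Q v) F₀ P) : QuadraticForm F₀ (ι → F₀) :=
  QuadraticMap.ofPolar (fun u => ⟨ζ * Q (jmap F₀ P u), hR _ (fun i => (u i).2)⟩)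
    (fun a x => by
      apply Subtype.ext
      show ζ * Q (jmap F₀ P (a • x)) = (a : F) * a * (ζ * Q (jmap F₀ P x))
      rw [jmap_smul, hQ.smul]
      ring)
    (fun x x' y => by
      apply Subtype.ext
      simp only [polar, jmap_add]
      show ζ * Q (jmap F₀ P x + jmap F₀ P x' + jmap F₀ P y) - ζ * Q (jmap F₀ P x + jmap F₀ P x')
        - ζ * Q (jmap F₀ P y) = ζ * Q (jmap F₀ P x + jmap F₀ P y) - ζ * Q (jmap F₀ P x) - ζ * Q (jmap F₀ P y) +
        (ζ * Q (jmap F₀ P x' + jmap F₀ P y) - ζ * Q (jmap F₀ P x') - ζ * Q (jmap F₀ P y))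
      have h := hQ.polar_bilinear.add_left (jmap F₀ P x) (jmap F₀ P x') (jmap F₀ P y)
      simp only [polar] at h
      linear_combination ζ * h)
    (fun a x y => by
      apply Subtype.ext
      simp only [polar, jmap_add, jmap_smul]
      show ζ * Q ((a : F) • jmap F₀ P x + jmap F₀ P y) - ζ * Q ((a : F) • jmap F₀ P x) - ζ * Q (jmap F₀ P y) =
        (a : F) * (ζ * Q (jmap F₀ P x + jmap F₀ P y) - ζ * Q (jmap F₀ P x) - ζ * Q (jmap F₀ P y))
      have h := hQ.polar_bilinear.smul_left (a : F) (jmap F₀ P x) (jmap F₀ P y)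
      simp only [polar] at h
      linear_combination ζ * h)

theorem form0_apply {Q : (ι → F) → F} (hQ : Geo.IsNondegenerateQuadraticForm Q) {F₀ : Subfield F} {P : GL ι F}
    {ζ : F} (hR : Geo.IsQuadFormRationalStructure (fun v => ζ * Q v) F₀ P) (u : ι → F₀) :
    (form0 hQ hR u : F) = ζ * Q (jmap F₀ P u) := rfl

theorem polar_form0 {Q : (ι → F) → F} (hQ : Geo.IsNondegenerateQuadraticForm Q) {F₀ : Subfield F} {P : GL ι F}
    {ζ : F} (hR : Geo.IsQuadFormRationalStructure (fun v => ζ * Q v) F₀ P) (u v : ι → F₀) :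
    ((polar (form0 hQ hR) u v : F₀) : F) = ζ * polar Q (jmap F₀ P u) (jmap F₀ P v) := by
  simp only [polar, AddSubgroupClass.coe_sub, form0_apply, jmap_add]
  ring

theorem exists_jmap_coord (F₀ : Subfield F) (P : GL ι F) (x : ι → F) :
    x = ∑ i, (((P⁻¹ : GL ι F) : Matrix ι ι F) *ᵥ x) i • jmap F₀ P (Pi.single i 1) := by
  have h1 : ∀ i, jmap F₀ P (Pi.single i 1) = (P : Matrix ι ι F) *ᵥ (Pi.single i (1 : F)) := by
    intro i
    unfold jmap
    congr 1
    funext k
    by_cases hk : k = i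
    · subst hk; simp
    · simp [hk]
  have h2 : x = (P : Matrix ι ι F) *ᵥ (((P⁻¹ : GL ι F) : Matrix ι ι F) *ᵥ x) := by
    rw [Matrix.mulVec_mulVec, ← Units.val_mul, mul_inv_cancel, Units.val_one, Matrix.one_mulVec]
  conv_lhs => rw [h2, pi_eq_sum_univ' (((P⁻¹ : GL ι F) : Matrix ι ι F) *ᵥ x)]
  rw [Matrix.mulVec_sum]
  refine Finset.sum_congr rfl fun i _ => ?_
  rw [h1, ← Matrix.mulVec_smul]

theorem jmap_injective (F₀ : Subfield F) (P : GL ι F) : Function.Injective (jmap F₀ P) := by
  intro u v h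
  have h2 : (fun i => (u i : F)) = fun i => (v i : F) := by
    have := congrArg (fun w => ((P⁻¹ : GL ι F) : Matrix ι ι F) *ᵥ w) h
    simp only [jmap] at this
    rwa [Matrix.mulVec_mulVec, Matrix.mulVec_mulVec, ← Units.val_mul, inv_mul_cancel, Units.val_one,
      Matrix.one_mulVec, Matrix.one_mulVec] at this
  funext i
  exact Subtype.ext (congrFun h2 i)

theorem ndOn_form0 {Q : (ι → F) → F} (hQ : Geo.IsNondegenerateQuadraticForm Q) {F₀ : Subfield F} {P : GL ι F}
    {ζ : F} (hζ : ζ ≠ 0) (hR : Geo.IsQuadFormRationalStructure (fun v => ζ * Q v) F₀ P) :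
    NdOn (form0 hQ hR) ⊤ := by
  intro u _ hu
  by_contra hc
  push Not at hc
  have hju : jmap F₀ P u ≠ 0 := by
    intro h
    apply hu
    apply jmap_injective F₀ P
    rw [h]
    unfold jmap
    simp only [Pi.zero_apply, ZeroMemClass.coe_zero]
    exact (Matrix.mulVec_zero _).symm
  obtain ⟨x, hx⟩ := (hQ.nondegenerate _ hju).2
  apply hx
  have key : ∀ i, polar Q (jmap F₀ P u) (jmap F₀ P (Pi.single i 1)) = 0 := by
    intro i
    have h := polar_form0 hQ hR u (Pi.single i 1)
    rw [hc _ Submodule.mem_top] at h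
    simpa [hζ] using h.symm
  rw [exists_jmap_coord F₀ P x]
  have hsum : ∀ (s : Finset ι) (c : ι → F), polar Q (jmap F₀ P u) (∑ i ∈ s, c i • jmap F₀ P (Pi.single i 1)) = 0 := by
    classical
    intro s c
    induction s using Finset.induction_on with
    | empty =>
      rw [Finset.sum_empty]
      have := hQ.polar_bilinear.smul_right 0 (jmap F₀ P u) 0
      simpa using this
    | insert a s ha ih =>
      rw [Finset.sum_insert ha, hQ.polar_bilinear.add_right, ih, hQ.polar_bilinear.smul_right, key]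
      simp
  exact hsum _ _

/-- Linear independence is preserved by `jmap` (two vectors). -/
theorem jmap_pair {F₀ : Subfield F} {P : GL ι F} {a b : ι → F₀} (hb : a ≠ 0)
    (hab : ∀ c : F₀, b ≠ c • a) (x : F) : x • jmap F₀ P a + jmap F₀ P b ≠ 0 := by
  intro h
  have h2 : ∀ i, x * (a i : F) + (b i : F) = 0 := by
    have h3 : (P : Matrix ι ι F) *ᵥ (fun i => x * (a i : F) + (b i : F)) = 0 := by
      rw [← h]
      unfold jmap
      rw [← Matrix.mulVec_smul, ← Matrix.mulVec_add]
      rfl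
    have := congrArg (fun w => ((P⁻¹ : GL ι F) : Matrix ι ι F) *ᵥ w) h3
    rw [Matrix.mulVec_mulVec, ← Units.val_mul, inv_mul_cancel, Units.val_one, Matrix.one_mulVec,
      Matrix.mulVec_zero] at this
    intro i
    exact congrFun this i
  obtain ⟨i, hi⟩ : ∃ i, a i ≠ 0 := by
    by_contra hc
    push Not at hc
    exact hb (funext hc)
  have hi' : (a i : F) ≠ 0 := fun h => hi (Subtype.ext h)
  -- `x = - b i / a i ∈ F₀`
  apply hab (b i / a i)
  funext k
  apply Subtype.ext
  have hx : x = - ((b i : F) / a i) := by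
    field_simp
    linear_combination h2 i
  have hk := h2 k
  rw [hx] at hk
  show (b k : F) = (b i : F) / a i * a k
  linear_combination hk

theorem plus_step [Finite F] {Q : (ι → F) → F} (hQ : Geo.IsNondegenerateQuadraticForm Q) {F₀ : Subfield F}
    (hcard : Nat.card F = Nat.card F₀ ^ 2) {P : GL ι F}
    {ζ : F} (hζ : ζ ≠ 0) (hR : Geo.IsQuadFormRationalStructure (fun v => ζ * Q v) F₀ P) :
    ∀ (m : ℕ) (W₀ : Submodule F₀ (ι → F₀)), NdOn (form0 hQ hR) W₀ → Module.finrank F₀ W₀ = 2 * m →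
      ∃ U : Submodule F (ι → F), U ≤ Submodule.span F (jmap F₀ P '' W₀) ∧ (∀ u ∈ U, Q u = 0) ∧
        Module.finrank F U = m := by
  set Q₀ := form0 hQ hR with hQ₀
  have Qz : ∀ u : ι → F₀, Q₀ u = 0 ↔ Q (jmap F₀ P u) = 0 := by
    intro u
    constructor
    · intro h
      have h1 : (Q₀ u : F) = 0 := by rw [h]; rfl
      rw [form0_apply] at h1
      exact (mul_eq_zero.1 h1).resolve_left hζ
    · intro h
      apply Subtype.ext
      show ζ * Q (jmap F₀ P u) = 0
      rw [h, mul_zero]
  have Pz : ∀ u v : ι → F₀, polar Q₀ u v = 0 ↔ polar Q (jmap F₀ P u) (jmap F₀ P v) = 0 := by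
    intro u v
    constructor
    · intro h
      have h1 : ((polar Q₀ u v : F₀) : F) = 0 := by rw [h]; rfl
      rw [polar_form0] at h1
      exact (mul_eq_zero.1 h1).resolve_left hζ
    · intro h
      apply Subtype.ext
      have := polar_form0 hQ hR u v
      rw [h, mul_zero] at this
      exact this
  have jne : ∀ {u : ι → F₀}, u ≠ 0 → jmap F₀ P u ≠ 0 := by
    intro u hu h
    apply hu
    apply jmap_injective F₀ P
    rw [h]
    unfold jmap
    simp only [Pi.zero_apply, ZeroMemClass.coe_zero]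
    exact (Matrix.mulVec_zero _).symm
  intro m
  induction m with
  | zero =>
    intro W₀ _ _
    exact ⟨⊥, bot_le, fun u hu => by rw [(Submodule.mem_bot F).1 hu]; simpa using hQ.smul 0 0, finrank_bot _ _⟩
  | succ m ih =>
    intro W₀ hW hfr
    by_cases hs : ∃ e ∈ W₀, e ≠ 0 ∧ Q₀ e = 0
    · -- split a hyperbolic plane
      obtain ⟨e, he, he0, hQe⟩ := hs
      obtain ⟨f, hf, h⟩ := exists_hyp_of_sing hW he he0 hQe
      obtain ⟨U, hU1, hU2, hU3⟩ := ih (cut Q₀ W₀ e f) (ndOn_cut hW h he hf) (by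
        have := finrank_cut (W := W₀) h he hf
        omega)
      have hperp : ∀ g ∈ ({e, f} : Set (ι → F₀)), ∀ u ∈ U, polar Q (jmap F₀ P g) u = 0 := by
        intro g hg u hu
        have hu' := hU1 hu
        refine Submodule.span_induction (p := fun u _ => polar Q (jmap F₀ P g) u = 0) ?_ ?_ ?_ ?_ hu'
        · rintro _ ⟨w, hw, rfl⟩
          rw [← Pz]
          rcases hg with rfl | rfl
          · exact hw.2.1
          · exact hw.2.2
        · simpa using hQ.polar_bilinear.smul_right 0 (jmap F₀ P g) 0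
        · intro x y _ _ hx hy
          rw [hQ.polar_bilinear.add_right, hx, hy, add_zero]
        · intro c x _ hx
          rw [hQ.polar_bilinear.smul_right, hx, mul_zero]
      have hpe : polar Q (jmap F₀ P e) (jmap F₀ P f) ≠ 0 := by
        intro h0
        rw [← Pz, h.pair] at h0
        exact one_ne_zero h0
      let H := H925.qf hQ
      have hHyp : Hyp H (jmap F₀ P e) ((polar Q (jmap F₀ P e) (jmap F₀ P f))⁻¹ • jmap F₀ P f) := by
        refine ⟨(Qz e).1 hQe, ?_, ?_⟩
        · show Q _ = 0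
          rw [hQ.smul, (Qz f).1 h.right, mul_zero]
        · show polar Q _ _ = 1
          rw [hQ.polar_bilinear.smul_right, inv_mul_cancel₀ hpe]
      obtain ⟨h1, h2⟩ := sing_sup hHyp (U := U) hU2 (hperp e (by simp)) (fun u hu => by
        rw [polar_smul_left]
        show _ • polar Q _ _ = 0
        rw [hperp f (by simp) u hu, smul_zero])
      refine ⟨U ⊔ Submodule.span F {jmap F₀ P e}, ?_, h1, by rw [h2, hU3]⟩
      refine sup_le (hU1.trans (Submodule.span_mono (Set.image_mono inf_le_left))) ?_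
      rw [Submodule.span_singleton_le_iff_mem]
      exact Submodule.subset_span ⟨e, he, rfl⟩
    · -- anisotropic: dimension at most two
      have hm : m = 0 := by
        by_contra hm
        obtain ⟨e, he, he0, hQe⟩ := exists_sing_mem (Q := Q₀) W₀ (by omega)
        exact hs ⟨e, he, he0, hQe⟩
      subst hm
      have hfr2 : Module.finrank F₀ W₀ = 2 := by omega
      obtain ⟨a, ha0⟩ : ∃ a : W₀, a ≠ 0 := by
        have : Nontrivial W₀ := Module.nontrivial_of_finrank_pos (R := F₀) (by omega)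
        exact exists_ne 0
      obtain ⟨b, hb⟩ : ∃ b : W₀, ∀ c : F₀, b ≠ c • a := by
        by_contra hc
        push Not at hc
        have : Module.finrank F₀ W₀ ≤ 1 := finrank_le_one a (fun w => by
          obtain ⟨c, hc⟩ := hc w
          exact ⟨c, hc.symm⟩)
        omega
      have ha0' : (a : ι → F₀) ≠ 0 := fun h => ha0 (Subtype.ext h)
      have hQa : Q₀ a ≠ 0 := fun h => hs ⟨a, a.2, ha0', h⟩
      obtain ⟨x, hx⟩ := exists_root_quadratic F₀ hcard (Q₀ a) (polar Q₀ a b) (Q₀ b) hQa
      rw [form0_apply, form0_apply, polar_form0] at hx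
      refine ⟨Submodule.span F {x • jmap F₀ P a + jmap F₀ P b}, ?_, ?_, ?_⟩
      · rw [Submodule.span_singleton_le_iff_mem]
        exact Submodule.add_mem _ (Submodule.smul_mem _ _ (Submodule.subset_span ⟨a, a.2, rfl⟩))
          (Submodule.subset_span ⟨b, b.2, rfl⟩)
      · intro u hu
        obtain ⟨c, rfl⟩ := Submodule.mem_span_singleton.1 hu
        have h0 : Q (x • jmap F₀ P a + jmap F₀ P b) = 0 := by
          have h1 : Q (x • jmap F₀ P a + jmap F₀ P b) = Q (x • jmap F₀ P a) + Q (jmap F₀ P b) +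
              polar Q (x • jmap F₀ P a) (jmap F₀ P b) := by simp only [polar]; ring
          have h2 : ζ * Q (x • jmap F₀ P a + jmap F₀ P b) = 0 := by
            rw [h1, hQ.smul, hQ.polar_bilinear.smul_left]
            linear_combination hx
          exact (mul_eq_zero.1 h2).resolve_left hζ
        rw [hQ.smul, h0, mul_zero]
      · rw [finrank_span_singleton]
        refine jmap_pair ha0' (fun c hc => hb c (Subtype.ext hc)) x

/-- **Index-two subfield structures carry only forms of plus type.** -/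
theorem plusType_of_index_two [Fintype F] {Q : (ι → F) → F} (hQ : Geo.IsNondegenerateQuadraticForm Q)
    (heven : Even (Fintype.card ι)) {F₀ : Subfield F}
    (hcard : Fintype.card F = Nat.card F₀ ^ 2) {P : GL ι F}
    {ζ : F} (hζ : ζ ≠ 0) (hR : Geo.IsQuadFormRationalStructure (fun v => ζ * Q v) F₀ P) :
    Geo.IsPlusTypeOn Q ⊤ := by
  obtain ⟨m, hm⟩ := heven
  obtain ⟨U, -, hU2, hU3⟩ := plus_step hQ (by rw [Nat.card_eq_fintype_card]; exact hcard) hζ hR m ⊤
    (ndOn_form0 hQ hζ hR) (by rw [finrank_top, Module.finrank_fintype_fun_eq_card]; omega)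
  exact ⟨U, le_top, hU2, by rw [hU3, finrank_top, Module.finrank_fintype_fun_eq_card]; omega⟩

end Cfsg.Agent.H926
end

-- part: H926/Sub1
section
/-!
# Rationality of the quadratic form from rationality of the polar form (helper926)

`quadRational_of_formRational` : `H` an irreducible group of isometries of `Q` inside `subfieldSubgroup F₀ P`,
`polar Q` is `F₀`-rational up to `ζ` on `P` ⇒ `ζ Q` is `F₀`-rational on `P`.  Every characteristic.
-/

set_option autoImplicit false
set_option linter.unusedSectionVars false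

namespace Cfsg.Agent.H926

open QuadraticMap Matrix Cfsg.Geo
open Cfsg.Agent.LieClassical.OrthCore Cfsg.Agent.LieClassical.OrthTrans Cfsg.Agent.LieClassical.OrthFinite

variable {ι : Type} [Fintype ι] [DecidableEq ι] {F : Type*} [Field F]

/-- Extension of an `F₀`-functional on the `F₀`-structure. -/
noncomputable def extFun (F₀ : Subfield F) (P : GL ι F) (φ : (ι → F₀) →ₗ[F₀] F₀) : (ι → F) →ₗ[F] F where
  toFun x := ∑ i, (φ (Pi.single i 1) : F) * (((P⁻¹ : GL ι F) : Matrix ι ι F) *ᵥ x) i
  map_add' x y := by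
    rw [← Finset.sum_add_distrib]
    refine Finset.sum_congr rfl fun i _ => ?_
    rw [Matrix.mulVec_add, Pi.add_apply, mul_add]
  map_smul' c x := by
    rw [RingHom.id_apply, smul_eq_mul, Finset.mul_sum]
    refine Finset.sum_congr rfl fun i _ => ?_
    rw [Matrix.mulVec_smul, Pi.smul_apply, smul_eq_mul]
    ring

theorem extFun_jmap (F₀ : Subfield F) (P : GL ι F) (φ : (ι → F₀) →ₗ[F₀] F₀) (u : ι → F₀) :
    extFun F₀ P φ (jmap F₀ P u) = (φ u : F) := by
  show ∑ i, (φ (Pi.single i 1) : F) * (((P⁻¹ : GL ι F) : Matrix ι ι F) *ᵥ (jmap F₀ P u)) i = _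
  have h1 : ((P⁻¹ : GL ι F) : Matrix ι ι F) *ᵥ (jmap F₀ P u) = fun i => (u i : F) := by
    unfold jmap
    rw [Matrix.mulVec_mulVec, ← Units.val_mul, inv_mul_cancel, Units.val_one, Matrix.one_mulVec]
  rw [h1]
  have h2 : φ u = ∑ i, φ (Pi.single i 1) * u i := by
    conv_lhs => rw [pi_eq_sum_univ' u]
    rw [map_sum]
    refine Finset.sum_congr rfl fun i _ => ?_
    rw [map_smul, smul_eq_mul, mul_comm]
  rw [h2]
  simp only [AddSubmonoidClass.coe_finsetSum, MulMemClass.coe_mul]

theorem extFun_injective {F₀ : Subfield F} {P : GL ι F} {φ : (ι → F₀) →ₗ[F₀] F₀} (h : extFun F₀ P φ = 0) : φ = 0 := by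
  refine LinearMap.ext fun u => Subtype.ext ?_
  rw [← extFun_jmap F₀ P φ, h]
  rfl

theorem jmap_span (F₀ : Subfield F) (P : GL ι F) (x : ι → F) : x ∈ Submodule.span F (Set.range (jmap F₀ P)) := by
  rw [exists_jmap_coord F₀ P x]
  exact Submodule.sum_mem _ fun i _ => Submodule.smul_mem _ _ (Submodule.subset_span ⟨_, rfl⟩)

theorem mulVec_jmap {F₀ : Subfield F} {P g : GL ι F} {g₀ : GL ι F₀} {c : Fˣ}
    (h : ∀ i j, (((P⁻¹ * g * P : GL ι F) : Matrix ι ι F)) i j = (c : F) * ((g₀ : Matrix ι ι F₀) i j : F))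
    (u : ι → F₀) : (g : Matrix ι ι F) *ᵥ (jmap F₀ P u) = (c : F) • jmap F₀ P ((g₀ : Matrix ι ι F₀) *ᵥ u) := by
  have h1 : (g : Matrix ι ι F) *ᵥ (jmap F₀ P u) =
      (P : Matrix ι ι F) *ᵥ (((P⁻¹ * g * P : GL ι F) : Matrix ι ι F) *ᵥ (fun i => (u i : F))) := by
    have h0 : g * P = P * (P⁻¹ * g * P) := by group
    unfold jmap
    rw [Matrix.mulVec_mulVec, Matrix.mulVec_mulVec, ← Units.val_mul, ← Units.val_mul, ← h0]
  rw [h1]
  unfold jmap
  rw [← Matrix.mulVec_smul]
  congr 1
  funext i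
  show ∑ j, ((P⁻¹ * g * P : GL ι F) : Matrix ι ι F) i j * (u j : F) =
    (c : F) * ((∑ j, (g₀ : Matrix ι ι F₀) i j * u j : F₀) : F)
  rw [AddSubmonoidClass.coe_finsetSum, Finset.mul_sum]
  refine Finset.sum_congr rfl fun j _ => ?_
  rw [h, MulMemClass.coe_mul, mul_assoc]

/-- **Rationality of the quadratic form from rationality of the polar form.** -/
theorem quadRational_of_formRational [Finite F] {Q : (ι → F) → F} (hQ : IsNondegenerateQuadraticForm Q)
    (hn : 2 ≤ Fintype.card ι) {H : Subgroup (GL ι F)} (hH : H ≤ Cfsg.isometryGroup F Q)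
    (hirr : ActsIrreducibly (matrixSet H)) {F₀ : Subfield F} {P : GL ι F} (hsub : H ≤ subfieldSubgroup F₀ P)
    {ζ : F} (hζ : ζ ≠ 0) (hR : IsFormRationalStructure (polar Q) F₀ ζ P) :
    IsQuadFormRationalStructure (fun v => ζ * Q v) F₀ P := by
  by_cases h2 : (2 : F) = 0
  swap
  · intro u hu
    have h := hR u u hu hu
    rw [polar_self_two hQ] at h
    have h3 : (2 : F)⁻¹ * (ζ * (2 * Q ((P : Matrix ι ι F) *ᵥ u))) ∈ F₀ :=
      F₀.mul_mem (F₀.inv_mem (by rw [← one_add_one_eq_two]; exact F₀.add_mem F₀.one_mem F₀.one_mem)) h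
    have h4 : (2 : F)⁻¹ * (ζ * (2 * Q ((P : Matrix ι ι F) *ᵥ u))) = ζ * Q ((P : Matrix ι ι F) *ᵥ u) := by
      field_simp
    rwa [h4] at h3
  have : Finite F₀ := inferInstance
  have h20 : (2 : F₀) = 0 := Subtype.ext h2
  have hRj : ∀ u v : ι → F₀, ζ * polar Q (jmap F₀ P u) (jmap F₀ P v) ∈ F₀ := fun u v =>
    hR _ _ (fun i => (u i).2) (fun i => (v i).2)
  -- `u, v` with nonzero polar
  obtain ⟨u, v, huv⟩ : ∃ u v : ι → F₀, polar Q (jmap F₀ P u) (jmap F₀ P v) ≠ 0 := by
    by_contra hc
    push Not at hc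
    have : Nonempty ι := Fintype.card_pos_iff.1 (by omega)
    obtain ⟨i⟩ := this
    have h0 : (Pi.single i 1 : ι → F) ≠ 0 := by
      intro h
      have := congrFun h i
      simp at this
    obtain ⟨y, hy⟩ := (hQ.nondegenerate _ h0).2
    apply hy
    have h3 : ∀ x y : ι → F, polar Q x y = 0 := by
      intro x y
      refine Submodule.span_induction (p := fun x _ => polar Q x y = 0) ?_ ?_ ?_ ?_ (jmap_span F₀ P x)
      · rintro _ ⟨a, rfl⟩
        refine Submodule.span_induction (p := fun y _ => polar Q (jmap F₀ P a) y = 0) ?_ ?_ ?_ ?_ (jmap_span F₀ P y)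
        · rintro _ ⟨b, rfl⟩
          exact hc a b
        · simpa using hQ.polar_bilinear.smul_right 0 (jmap F₀ P a) 0
        · intro x y _ _ hx hy
          rw [hQ.polar_bilinear.add_right, hx, hy, add_zero]
        · intro c x _ hx
          rw [hQ.polar_bilinear.smul_right, hx, mul_zero]
      · simpa using hQ.polar_bilinear.smul_left 0 0 y
      · intro x z _ _ hx hz
        rw [hQ.polar_bilinear.add_left, hx, hz, add_zero]
      · intro c x _ hx
        rw [hQ.polar_bilinear.smul_left, hx, mul_zero]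
    exact h3 _ _
  -- elements of `H` act on the `F₀`-structure
  have hact : ∀ g ∈ H, ∃ g₁ : Matrix ι ι F₀, ∀ w : ι → F₀,
      (g : Matrix ι ι F) *ᵥ (jmap F₀ P w) = jmap F₀ P (g₁ *ᵥ w) := by
    intro g hg
    obtain ⟨g₀, c, hgc⟩ := H925.mem_subfieldSubgroup_iff.1 (hsub hg)
    have hmul := mulVec_jmap hgc
    have h3 : polar Q (jmap F₀ P u) (jmap F₀ P v) =
        (c : F) ^ 2 * polar Q (jmap F₀ P ((g₀ : Matrix ι ι F₀) *ᵥ u)) (jmap F₀ P ((g₀ : Matrix ι ι F₀) *ᵥ v)) := by
      rw [← polar_iso (hH hg), hmul, hmul, hQ.polar_bilinear.smul_left, hQ.polar_bilinear.smul_right]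
      ring
    have hc2 : (c : F) ^ 2 ∈ F₀ := by
      have h4 := F₀.div_mem (hRj u v) (hRj ((g₀ : Matrix ι ι F₀) *ᵥ u) ((g₀ : Matrix ι ι F₀) *ᵥ v))
      have h5 : polar Q (jmap F₀ P ((g₀ : Matrix ι ι F₀) *ᵥ u)) (jmap F₀ P ((g₀ : Matrix ι ι F₀) *ᵥ v)) ≠ 0 := by
        intro h0
        rw [h0, mul_zero] at h3
        exact huv h3
      rw [h3] at h4
      have h6 : ζ * ((c : F) ^ 2 * polar Q (jmap F₀ P ((g₀ : Matrix ι ι F₀) *ᵥ u))
          (jmap F₀ P ((g₀ : Matrix ι ι F₀) *ᵥ v))) /
          (ζ * polar Q (jmap F₀ P ((g₀ : Matrix ι ι F₀) *ᵥ u)) (jmap F₀ P ((g₀ : Matrix ι ι F₀) *ᵥ v))) =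
          (c : F) ^ 2 := by field_simp
      rwa [h6] at h4
    obtain ⟨d, hd⟩ := exists_sq h20 (⟨(c : F) ^ 2, hc2⟩ : F₀)
    have hcd : (c : F) = d := by
      have h4 : (d : F) ^ 2 = (c : F) ^ 2 := congrArg Subtype.val hd
      have h5 : ((c : F) - d) ^ 2 = 0 := by
        linear_combination h4 + ((c : F) ^ 2 - c * d) * h2
      exact sub_eq_zero.1 (pow_eq_zero_iff (two_ne_zero) |>.1 h5)
    refine ⟨d • (g₀ : Matrix ι ι F₀), fun w => ?_⟩
    rw [hmul, hcd, Matrix.smul_mulVec, jmap_smul]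
  -- the `F₀`-subspace of vectors with rational value
  let T : Submodule F₀ (ι → F₀) :=
    { carrier := {w | ζ * Q (jmap F₀ P w) ∈ F₀}
      add_mem' := by
        intro a b ha hb
        show ζ * Q (jmap F₀ P (a + b)) ∈ F₀
        rw [jmap_add, Q_add' Q, mul_add, mul_add]
        exact F₀.add_mem (F₀.add_mem ha hb) (hRj a b)
      zero_mem' := by
        show ζ * Q (jmap F₀ P 0) ∈ F₀
        have : jmap F₀ P 0 = 0 := by
          unfold jmap
          simp only [Pi.zero_apply, ZeroMemClass.coe_zero]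
          exact Matrix.mulVec_zero _
        rw [this, Q_zero hQ, mul_zero]
        exact F₀.zero_mem
      smul_mem' := by
        intro c a ha
        show ζ * Q (jmap F₀ P (c • a)) ∈ F₀
        rw [jmap_smul, hQ.smul]
        have : ζ * ((c : F) ^ 2 * Q (jmap F₀ P a)) = (c : F) ^ 2 * (ζ * Q (jmap F₀ P a)) := by ring
        rw [this]
        exact F₀.mul_mem (F₀.pow_mem c.2 2) ha }
  have hT : T = ⊤ := by
    by_contra hne
    obtain ⟨φ, hφ0, hφ⟩ := Submodule.exists_le_ker_of_lt_top T (lt_top_iff_ne_top.2 hne)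
    -- the extension is `H`-invariant
    have hinv : ∀ g ∈ H, ∀ x, extFun F₀ P φ ((g : Matrix ι ι F) *ᵥ x) = extFun F₀ P φ x := by
      intro g hg x
      obtain ⟨g₁, hg₁⟩ := hact g hg
      refine Submodule.span_induction (p := fun x _ => extFun F₀ P φ ((g : Matrix ι ι F) *ᵥ x) = extFun F₀ P φ x)
        ?_ ?_ ?_ ?_ (jmap_span F₀ P x)
      · rintro _ ⟨w, rfl⟩
        rw [hg₁, extFun_jmap, extFun_jmap]
        congr 1
        -- `g₁ w - w ∈ T`
        have hmem : g₁ *ᵥ w - w ∈ T := by
          show ζ * Q (jmap F₀ P (g₁ *ᵥ w - w)) ∈ F₀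
          have h3 : jmap F₀ P (g₁ *ᵥ w - w) = jmap F₀ P (g₁ *ᵥ w) + jmap F₀ P ((-1 : F₀) • w) := by
            rw [← jmap_add]; congr 1; rw [neg_one_smul, sub_eq_add_neg]
          rw [h3, Q_add' Q, jmap_smul, hQ.smul, hQ.polar_bilinear.smul_right, ← hg₁,
            H925.mem_iso_iff.1 (hH hg), hg₁]
          have h4 : ζ * (Q (jmap F₀ P w) + ((-1 : F₀) : F) ^ 2 * Q (jmap F₀ P w) +
              ((-1 : F₀) : F) * polar Q (jmap F₀ P (g₁ *ᵥ w)) (jmap F₀ P w)) =
              - (ζ * polar Q (jmap F₀ P (g₁ *ᵥ w)) (jmap F₀ P w)) := by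
            have : ((-1 : F₀) : F) = -1 := by norm_num
            rw [this]
            linear_combination (ζ * Q (jmap F₀ P w)) * h2
          rw [h4]
          exact F₀.neg_mem (hRj _ _)
        have := hφ hmem
        rw [LinearMap.mem_ker, map_sub, sub_eq_zero] at this
        exact this
      · rw [Matrix.mulVec_zero]
      · intro x y _ _ hx hy
        rw [Matrix.mulVec_add, map_add, map_add, hx, hy]
      · intro c x _ hx
        rw [Matrix.mulVec_smul, map_smul, map_smul, hx]
    rcases H924.irr_subspace hirr (LinearMap.ker (extFun F₀ P φ)) (fun h hh x hx => by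
      rw [LinearMap.mem_ker, hinv h hh]; exact hx) with hb | ht
    · have h3 := LinearMap.finrank_range_add_finrank_ker (extFun F₀ P φ)
      have h4 : Module.finrank F (LinearMap.range (extFun F₀ P φ)) ≤ 1 :=
        (Submodule.finrank_le _).trans (by rw [Module.finrank_self])
      rw [hb, finrank_bot, Module.finrank_fintype_fun_eq_card] at h3
      omega
    · exact hφ0 (extFun_injective (LinearMap.ker_eq_top.1 ht))
  intro w hw
  have : (fun i => (⟨w i, hw i⟩ : F₀)) ∈ T := by rw [hT]; exact Submodule.mem_top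
  exact this

end Cfsg.Agent.H926
end
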