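import Cfsg.Agent.H926.EvenA
import Cfsg.Agent.H912.Core4
set_option linter.all false

/-!
# Field subalgebras and quadratic forms (helper926)

* `selfAdjoint_of_odd` : an adjoint-closed field subalgebra of odd degree is self-adjoint (symmetric form);
* `similarity_of_deg_two` : an adjoint-closed, not self-adjoint field subalgebra of degree two normalised by an
  irreducible group of isometries of `Q` acts by similarities of `Q` (every characteristic);
* `even_dim_of_selfAdjoint` : characteristic two, `K` self-adjoint for `polar Q` ⇒ `card ι / r` is even.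
-/

set_option autoImplicit false
set_option linter.unusedSectionVars false

namespace Cfsg.Agent.H926

open QuadraticMap Matrix Cfsg.Geo
open Cfsg.Agent.LieClassical.OrthCore Cfsg.Agent.LieClassical.OrthTrans Cfsg.Agent.LieClassical.OrthFinite
open Cfsg.Agent.H919 Cfsg.Agent.H924

variable {ι : Type} [Fintype ι] [DecidableEq ι] {F : Type*} [Field F]

/-- The adjoint as an automorphism of a commutative adjoint-closed subalgebra (symmetric form). -/
noncomputable def adjAut {f : (ι → F) → (ι → F) → F} (hf : HermForm (RingEquiv.refl F) 1 f)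
    {K : Subalgebra F (Matrix ι ι F)} (hcomm : ∀ x ∈ K, ∀ y ∈ K, x * y = y * x) (hK : IsAdjointClosedFor f K) :
    K →ₐ[F] K where
  toFun x := ⟨adjM (RingEquiv.refl F) f x, adjM_mem hf hK x.2⟩
  map_one' := Subtype.ext (adjM_one hf)
  map_mul' x y := Subtype.ext (by
    show adjM _ f ((x : Matrix ι ι F) * y) = adjM _ f x * adjM _ f y
    rw [hcomm x x.2 y y.2, adjM_mul hf])
  map_zero' := Subtype.ext (adjM_zero hf)
  map_add' x y := Subtype.ext (adjM_add hf _ _)
  commutes' c := Subtype.ext (by
    show adjM _ f (algebraMap F (Matrix ι ι F) c) = algebraMap F (Matrix ι ι F) c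
    rw [Algebra.algebraMap_eq_smul_one, adjM_smul hf, adjM_one hf]
    rfl)

theorem adjAut_adjAut {f : (ι → F) → (ι → F) → F} (hf : HermForm (RingEquiv.refl F) 1 f)
    {K : Subalgebra F (Matrix ι ι F)} (hcomm : ∀ x ∈ K, ∀ y ∈ K, x * y = y * x) (hK : IsAdjointClosedFor f K) :
    (adjAut hf hcomm hK).comp (adjAut hf hcomm hK) = AlgHom.id F K := by
  ext1 x
  exact Subtype.ext (adjM_adjM hf x)

/-- An adjoint-closed field subalgebra of odd degree is self-adjoint. -/
theorem selfAdjoint_of_odd [Nonempty ι] [Finite F] {f : (ι → F) → (ι → F) → F}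
    (hf : HermForm (RingEquiv.refl F) 1 f) {r : ℕ} (hr : Odd r)
    {K : Subalgebra F (Matrix ι ι F)} (hK : IsFieldSubalgebra r K) (hadj : IsAdjointClosedFor f K) :
    IsSelfAdjointFor f K := by
  let _ : Field K := (H912.isField_of_fieldSub hK).toField
  have : Finite K := Module.finite_of_finite F
  let φ := adjAut hf hK.comm hadj
  have hφ : φ.comp φ = AlgHom.id F K := adjAut_adjAut hf hK.comm hadj
  let e : K ≃ₐ[F] K := AlgEquiv.ofAlgHom φ φ hφ hφ
  have he2 : e ^ 2 = 1 := by
    rw [pow_two]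
    ext1 x
    exact congrArg (fun g => g x) hφ
  have hcard : Nat.card (K ≃ₐ[F] K) = r := by
    rw [IsGalois.card_aut_eq_finrank F K]
    exact hK.finrank_eq
  have h1 : orderOf e ∣ 2 := orderOf_dvd_of_pow_eq_one he2
  have h2 : orderOf e ∣ r := by
    rw [← hcard]; exact orderOf_dvd_natCard e
  have h3 : orderOf e = 1 := by
    rcases (Nat.dvd_prime Nat.prime_two).1 h1 with h | h
    · exact h
    · rw [h] at h2
      obtain ⟨k, hk⟩ := hr
      omega
  have he : e = 1 := orderOf_eq_one_iff.1 h3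
  intro k hk u v
  have h4 : adjM (RingEquiv.refl F) f k = k := by
    have := congrArg (fun g => ((g ⟨k, hk⟩ : K) : Matrix ι ι F)) he
    exact this
  have := isAdj_adjM hf k
  rw [h4] at this
  exact this u v

/-- Fixed elements of the adjoint on a non-self-adjoint field of degree two are scalars. -/
theorem scalar_of_fixed {f : (ι → F) → (ι → F) → F}
    (hf : HermForm (RingEquiv.refl F) 1 f)
    {K : Subalgebra F (Matrix ι ι F)} (hK : IsFieldSubalgebra 2 K)
    (hns : ¬ IsSelfAdjointFor f K) {x : Matrix ι ι F} (hx : x ∈ K) (hfix : adjM (RingEquiv.refl F) f x = x) :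
    ∃ c : F, x = c • (1 : Matrix ι ι F) := by
  by_contra hc
  push Not at hc
  apply hns
  have : Module.Finite F K := Module.finite_of_finrank_pos (by rw [hK.finrank_eq]; norm_num)
  -- `1, x` span `K`
  have hspan : ∀ k ∈ K, ∃ a b : F, k = a • (1 : Matrix ι ι F) + b • x := by
    let v : Fin 2 → K := ![1, ⟨x, hx⟩]
    have hli : LinearIndependent F v := by
      rw [LinearIndependent.pair_iff]
      intro s t hst
      have hst' : s • (1 : Matrix ι ι F) + t • x = 0 := congrArg Subtype.val hst
      have ht : t = 0 := by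
        by_contra ht
        apply hc (-(t⁻¹ * s))
        have h1 : t • x = -(s • (1 : Matrix ι ι F)) := by
          rw [add_comm] at hst'
          exact eq_neg_of_add_eq_zero_left hst'
        have h2 : x = t⁻¹ • (t • x) := by rw [smul_smul, inv_mul_cancel₀ ht, one_smul]
        rw [h2, h1, smul_neg, smul_smul, neg_smul]
      subst ht
      rw [zero_smul, add_zero] at hst'
      refine ⟨?_, rfl⟩
      by_contra hs
      have h1 : (1 : Matrix ι ι F) = 0 := by
        have := congrArg (fun y => s⁻¹ • y) hst'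
        simpa [smul_smul, inv_mul_cancel₀ hs] using this
      apply hc 0
      rw [zero_smul, ← mul_one x, h1, mul_zero]
    have hcard : Fintype.card (Fin 2) = Module.finrank F K := by rw [hK.finrank_eq]; simp
    have htop := hli.span_eq_top_of_card_eq_finrank' hcard
    intro k hk
    have hk' : (⟨k, hk⟩ : K) ∈ Submodule.span F (Set.range v) := by rw [htop]; exact Submodule.mem_top
    have hr : Set.range v = {1, ⟨x, hx⟩} := by
      ext y
      simp only [v, Set.mem_range, Set.mem_insert_iff, Set.mem_singleton_iff]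
      constructor
      · rintro ⟨i, rfl⟩
        fin_cases i
        · left; rfl
        · right; rfl
      · rintro (h | h)
        · exact ⟨0, h.symm⟩
        · exact ⟨1, h.symm⟩
    rw [hr, Submodule.mem_span_pair] at hk'
    obtain ⟨a, b, hab⟩ := hk'
    exact ⟨a, b, (congrArg Subtype.val hab).symm⟩
  intro k hk u v
  obtain ⟨a, b, rfl⟩ := hspan k hk
  have h4 : adjM (RingEquiv.refl F) f (a • (1 : Matrix ι ι F) + b • x) = a • (1 : Matrix ι ι F) + b • x := by
    rw [adjM_add hf, adjM_smul hf, adjM_smul hf, adjM_one hf, hfix]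
    rfl
  have := isAdj_adjM hf (a • (1 : Matrix ι ι F) + b • x)
  rw [h4] at this
  exact this u v

/-- In a field of degree two, every element is `a + b ω`. -/
theorem span_of_nonscalar {K : Subalgebra F (Matrix ι ι F)} [Nonempty ι] (hK : IsFieldSubalgebra 2 K) {ω : Matrix ι ι F}
    (hω : ω ∈ K) (hns : ∀ c : F, ω ≠ c • (1 : Matrix ι ι F)) :
    ∀ k ∈ K, ∃ a b : F, k = a • (1 : Matrix ι ι F) + b • ω := by
  have : Module.Finite F K := Module.finite_of_finrank_pos (by rw [hK.finrank_eq]; norm_num)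
  let v : Fin 2 → K := ![1, ⟨ω, hω⟩]
  have hli : LinearIndependent F v := by
    rw [LinearIndependent.pair_iff]
    intro s t hst
    have hst' : s • (1 : Matrix ι ι F) + t • ω = 0 := congrArg Subtype.val hst
    have ht : t = 0 := by
      by_contra ht
      apply hns (-(t⁻¹ * s))
      have h1 : t • ω = -(s • (1 : Matrix ι ι F)) := by
        rw [add_comm] at hst'
        exact eq_neg_of_add_eq_zero_left hst'
      have h2 : ω = t⁻¹ • (t • ω) := by rw [smul_smul, inv_mul_cancel₀ ht, one_smul]
      rw [h2, h1, smul_neg, smul_smul, neg_smul]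
    subst ht
    rw [zero_smul, add_zero] at hst'
    refine ⟨?_, rfl⟩
    by_contra hs
    have h1 : (1 : Matrix ι ι F) = 0 := by
      have := congrArg (fun y => s⁻¹ • y) hst'
      simpa [smul_smul, inv_mul_cancel₀ hs] using this
    exact one_ne_zero h1
  have hcard : Fintype.card (Fin 2) = Module.finrank F K := by rw [hK.finrank_eq]; simp
  have htop := hli.span_eq_top_of_card_eq_finrank' hcard
  intro k hk
  have hk' : (⟨k, hk⟩ : K) ∈ Submodule.span F (Set.range v) := by rw [htop]; exact Submodule.mem_top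
  have hr : Set.range v = {1, ⟨ω, hω⟩} := by
    ext y
    simp only [v, Set.mem_range, Set.mem_insert_iff, Set.mem_singleton_iff]
    constructor
    · rintro ⟨i, rfl⟩
      fin_cases i
      · left; rfl
      · right; rfl
    · rintro (h | h)
      · exact ⟨0, h.symm⟩
      · exact ⟨1, h.symm⟩
  rw [hr, Submodule.mem_span_pair] at hk'
  obtain ⟨a, b, hab⟩ := hk'
  exact ⟨a, b, (congrArg Subtype.val hab).symm⟩

/-- **Degree two, not self-adjoint: similarities of `Q`.** -/
theorem similarity_of_deg_two [Finite F] {Q : (ι → F) → F} (hQ : IsNondegenerateQuadraticForm Q)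
    (hn : 3 ≤ Fintype.card ι) {H : Subgroup (GL ι F)} (hH : H ≤ Cfsg.isometryGroup F Q)
    (hirr : ActsIrreducibly (matrixSet H)) {K : Subalgebra F (Matrix ι ι F)} (hK : IsFieldSubalgebra 2 K)
    (hN : H ≤ subalgebraNormalizer K) (hadj : IsAdjointClosedFor (polar Q) K)
    (hns : ¬ IsSelfAdjointFor (polar Q) K) :
    ∀ k ∈ K, ∃ c : F, ∀ v : ι → F, Q (k *ᵥ v) = c * Q v := by
  have : Nonempty ι := Fintype.card_pos_iff.1 (by omega)
  have hf := hermForm_polar hQ
  set st := adjM (RingEquiv.refl F) (polar Q) with hst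
  -- a nonscalar element
  obtain ⟨ω, hω, hωns⟩ : ∃ ω ∈ K, ∀ c : F, ω ≠ c • (1 : Matrix ι ι F) := by
    by_contra hc
    push Not at hc
    apply hns
    intro k hk u v
    obtain ⟨c, rfl⟩ := hc k hk
    rw [Matrix.smul_mulVec, Matrix.one_mulVec, Matrix.smul_mulVec, Matrix.one_mulVec,
      hQ.polar_bilinear.smul_left, hQ.polar_bilinear.smul_right]
  have hspan := span_of_nonscalar hK hω hωns
  -- norm and trace
  obtain ⟨N, hNω⟩ : ∃ N : F, st ω * ω = N • (1 : Matrix ι ι F) := by
    refine scalar_of_fixed hf hK hns (K.mul_mem (adjM_mem hf hadj hω) hω) ?_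
    rw [adjM_mul hf, adjM_adjM hf]
  obtain ⟨T, hTω⟩ : ∃ T : F, ω + st ω = T • (1 : Matrix ι ι F) := by
    refine scalar_of_fixed hf hK hns (K.add_mem hω (adjM_mem hf hadj hω)) ?_
    rw [adjM_add hf, adjM_adjM hf, add_comm]
  have hadjω : ∀ u v, polar Q (ω *ᵥ u) v = polar Q u (st ω *ᵥ v) := fun u v => isAdj_adjM hf ω u v
  -- polar identities
  have hp1 : ∀ u v, polar Q (ω *ᵥ u) (ω *ᵥ v) = N * polar Q u v := by
    intro u v
    rw [hadjω, Matrix.mulVec_mulVec, hNω, Matrix.smul_mulVec, Matrix.one_mulVec, hQ.polar_bilinear.smul_right]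
  have hp2 : ∀ u v, polar Q u (ω *ᵥ v) + polar Q v (ω *ᵥ u) = T * polar Q u v := by
    intro u v
    rw [polar_comm Q v (ω *ᵥ u), hadjω, ← hQ.polar_bilinear.add_right, ← Matrix.add_mulVec, hTω,
      Matrix.smul_mulVec, Matrix.one_mulVec, hQ.polar_bilinear.smul_right]
  -- the invariant subspace
  let U : Submodule F (ι → F) :=
    { carrier := {v | Q (ω *ᵥ v) = N * Q v ∧ polar Q v (ω *ᵥ v) = T * Q v}
      add_mem' := by
        rintro u v ⟨hu1, hu2⟩ ⟨hv1, hv2⟩
        constructor
        · rw [Matrix.mulVec_add, Q_add' Q, Q_add' Q u v, hu1, hv1, hp1]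
          ring
        · rw [Matrix.mulVec_add, hQ.polar_bilinear.add_left, hQ.polar_bilinear.add_right,
            hQ.polar_bilinear.add_right, Q_add' Q u v, hu2, hv2]
          linear_combination hp2 u v
      zero_mem' := by
        constructor
        · rw [Matrix.mulVec_zero, Q_zero hQ, mul_zero]
        · rw [Matrix.mulVec_zero, Q_zero hQ, mul_zero]
          simpa using hQ.polar_bilinear.smul_right 0 0 0
      smul_mem' := by
        rintro c v ⟨hv1, hv2⟩
        constructor
        · rw [Matrix.mulVec_smul, hQ.smul, hQ.smul, hv1]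
          ring
        · rw [Matrix.mulVec_smul, hQ.polar_bilinear.smul_left, hQ.polar_bilinear.smul_right, hQ.smul, hv2]
          ring }
  have hUinv : ∀ h ∈ H, ∀ v ∈ U, (h : Matrix ι ι F) *ᵥ v ∈ U := by
    intro h hh v hv
    have hinvH : h⁻¹ ∈ H := H.inv_mem hh
    have hω' : ((h⁻¹ : GL ι F) : Matrix ι ι F) * ω * (((h⁻¹)⁻¹ : GL ι F) : Matrix ι ι F) ∈ K :=
      ((hN hinvH) ω).1 hω
    rw [inv_inv] at hω'
    obtain ⟨a, b, hab⟩ := hspan _ hω'
    have hcomm : ∀ w, ω *ᵥ ((h : Matrix ι ι F) *ᵥ w) = (h : Matrix ι ι F) *ᵥ (a • w + b • (ω *ᵥ w)) := by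
      intro w
      have h1 : ω * (h : Matrix ι ι F) = (h : Matrix ι ι F) * (a • (1 : Matrix ι ι F) + b • ω) := by
        rw [← hab, ← mul_assoc, ← mul_assoc, ← Units.val_mul, mul_inv_cancel, Units.val_one, one_mul]
      rw [Matrix.mulVec_mulVec, h1, ← Matrix.mulVec_mulVec, Matrix.add_mulVec, Matrix.smul_mulVec,
        Matrix.smul_mulVec, Matrix.one_mulVec]
    -- relations between `a, b, N, T`
    have hiso : ∀ u v, polar Q ((h : Matrix ι ι F) *ᵥ u) ((h : Matrix ι ι F) *ᵥ v) = polar Q u v := polar_iso (hH hh)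
    obtain ⟨x, y, hxy⟩ : ∃ x y : ι → F, polar Q x y ≠ 0 := by
      obtain ⟨i⟩ := (inferInstance : Nonempty ι)
      have h0 : (Pi.single i 1 : ι → F) ≠ 0 := by
        intro h
        have := congrFun h i
        simp at this
      obtain ⟨y, hy⟩ := (hQ.nondegenerate _ h0).2
      exact ⟨_, y, hy⟩
    have hbl := hQ.polar_bilinear
    have hrelN : N = a ^ 2 + a * b * T + b ^ 2 * N := by
      have h1 := hp1 ((h : Matrix ι ι F) *ᵥ x) ((h : Matrix ι ι F) *ᵥ y)
      rw [hcomm, hcomm, hiso, hiso, hbl.add_left, hbl.add_right, hbl.add_right, hbl.smul_left, hbl.smul_left,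
        hbl.smul_left, hbl.smul_left, hbl.smul_right, hbl.smul_right, hbl.smul_right, hbl.smul_right, hp1] at h1
      have h2 : polar Q x (ω *ᵥ y) + polar Q (ω *ᵥ x) y = T * polar Q x y := by
        rw [polar_comm Q (ω *ᵥ x) y]; exact hp2 x y
      have h3 : (N - (a ^ 2 + a * b * T + b ^ 2 * N)) * polar Q x y = 0 := by
        linear_combination -h1 + a * b * h2
      exact sub_eq_zero.1 ((mul_eq_zero.1 h3).resolve_right hxy)
    have hrelT : T = 2 * a + b * T := by
      have h1 := hp2 ((h : Matrix ι ι F) *ᵥ x) ((h : Matrix ι ι F) *ᵥ y)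
      rw [hcomm, hcomm, hiso, hiso, hiso, hbl.add_right, hbl.add_right, hbl.smul_right, hbl.smul_right,
        hbl.smul_right, hbl.smul_right, polar_comm Q y x] at h1
      have h2 := hp2 x y
      have h3 : (T - (2 * a + b * T)) * polar Q x y = 0 := by
        linear_combination -h1 + b * h2
      exact sub_eq_zero.1 ((mul_eq_zero.1 h3).resolve_right hxy)
    obtain ⟨hv1, hv2⟩ := hv
    have hQh : ∀ w, Q ((h : Matrix ι ι F) *ᵥ w) = Q w := H925.mem_iso_iff.1 (hH hh)
    constructor
    · rw [hcomm, hQh, hQh, Q_add' Q, hQ.smul, hQ.smul, hbl.smul_left, hbl.smul_right, hv1, hv2]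
      linear_combination -(Q v) * hrelN
    · rw [hcomm, hiso, hQh, hbl.add_right, hbl.smul_right, hbl.smul_right, hv2, polar_self_two hQ]
      linear_combination -(Q v) * hrelT
  rcases irr_subspace hirr U hUinv with hb | ht
  · exfalso
    -- counting
    let φ : (ι → F) →+ F × F :=
      { toFun := fun v => (Q (ω *ᵥ v) - N * Q v, polar Q v (ω *ᵥ v) - T * Q v)
        map_zero' := by
          have : (0 : ι → F) ∈ U := U.zero_mem
          exact Prod.ext (sub_eq_zero.2 this.1) (sub_eq_zero.2 this.2)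
        map_add' := by
          intro u v
          refine Prod.ext ?_ ?_
          · show Q (ω *ᵥ (u + v)) - N * Q (u + v) = (Q (ω *ᵥ u) - N * Q u) + (Q (ω *ᵥ v) - N * Q v)
            rw [Matrix.mulVec_add, Q_add' Q, Q_add' Q u v, hp1]
            ring
          · show polar Q (u + v) (ω *ᵥ (u + v)) - T * Q (u + v) =
              (polar Q u (ω *ᵥ u) - T * Q u) + (polar Q v (ω *ᵥ v) - T * Q v)
            rw [Matrix.mulVec_add, hQ.polar_bilinear.add_left, hQ.polar_bilinear.add_right,
              hQ.polar_bilinear.add_right, Q_add' Q u v]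
            linear_combination hp2 u v }
    have hinj : Function.Injective φ := by
      rw [injective_iff_map_eq_zero]
      intro v hv
      have hvU : v ∈ U := ⟨sub_eq_zero.1 (congrArg Prod.fst hv), sub_eq_zero.1 (congrArg Prod.snd hv)⟩
      rw [hb] at hvU
      exact (Submodule.mem_bot F).1 hvU
    have := Fintype.ofFinite F
    have hle := Nat.card_le_card_of_injective φ hinj
    rw [Nat.card_prod, Nat.card_fun, Nat.card_eq_fintype_card (α := ι), ← pow_two] at hle
    have h1 : 1 < Nat.card F := Finite.one_lt_card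
    have := Nat.pow_lt_pow_right h1 (show 2 < Fintype.card ι by omega)
    omega
  · intro k hk
    obtain ⟨a, b, rfl⟩ := hspan k hk
    refine ⟨a ^ 2 + a * b * T + b ^ 2 * N, fun v => ?_⟩
    have hv : v ∈ U := by rw [ht]; exact Submodule.mem_top
    obtain ⟨hv1, hv2⟩ := hv
    rw [Matrix.add_mulVec, Matrix.smul_mulVec, Matrix.smul_mulVec, Matrix.one_mulVec, Q_add' Q, hQ.smul,
      hQ.smul, hQ.polar_bilinear.smul_left, hQ.polar_bilinear.smul_right, hv1, hv2]
    ring

section KForm

variable {K : Subalgebra F (Matrix ι ι F)}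

/-- The trace duality of a field subalgebra for a nonzero functional `τ`. -/
noncomputable def dualMap (τ : K →ₗ[F] F) : K →ₗ[F] (K →ₗ[F] F) :=
  LinearMap.mk₂ F (fun c k => τ (k * c)) (fun c c' k => by rw [mul_add, map_add])
    (fun a c k => by rw [mul_smul_comm, map_smul]) (fun c k k' => by rw [add_mul, map_add])
    (fun a c k => by rw [smul_mul_assoc, map_smul])

theorem dualMap_apply (τ : K →ₗ[F] F) (c k : K) : dualMap τ c k = τ (k * c) := rfl

theorem dualMap_injective [Nonempty ι] {r : ℕ} (hK : IsFieldSubalgebra r K) {τ : K →ₗ[F] F} (hτ : τ ≠ 0) :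
    Function.Injective (dualMap τ) := by
  rw [← LinearMap.ker_eq_bot, LinearMap.ker_eq_bot']
  intro c hc
  by_contra h0
  apply hτ
  ext1 x
  obtain ⟨y, hy, hxy⟩ := hK.inv c c.2 (fun h => h0 (Subtype.ext h))
  have h1 := congrArg (fun g => g (x * ⟨y, hy⟩)) hc
  simp only [dualMap_apply, LinearMap.zero_apply] at h1
  have h2 : x * (⟨y, hy⟩ : K) * c = x := by
    rw [mul_assoc]
    have : (⟨y, hy⟩ : K) * c = 1 := by
      apply Subtype.ext
      show y * (c : Matrix ι ι F) = 1
      rw [hK.comm y hy c c.2]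
      exact hxy
    rw [this, mul_one]
  rw [h2] at h1
  exact h1

theorem exists_tau [Nonempty ι] (K : Subalgebra F (Matrix ι ι F)) : ∃ τ : K →ₗ[F] F, τ ≠ 0 := by
  by_contra hc
  push Not at hc
  have h1 : (1 : K) = 0 := (Module.forall_dual_apply_eq_zero_iff F (1 : K)).1 (fun f => by rw [hc f]; rfl)
  exact one_ne_zero h1

/-- Trace duality as an equivalence. -/
noncomputable def dualEquiv [Nonempty ι] {r : ℕ} (hK : IsFieldSubalgebra r K) {τ : K →ₗ[F] F} (hτ : τ ≠ 0) :
    K ≃ₗ[F] (K →ₗ[F] F) :=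
  LinearEquiv.ofInjectiveOfFinrankEq (dualMap τ) (dualMap_injective hK hτ) (by
    rw [Subspace.dual_finrank_eq])

/-- The functional `k ↦ f (k u) v`. -/
noncomputable def kFun {f : (ι → F) → (ι → F) → F} (hf : IsBilinearForm f) (u v : ι → F) : K →ₗ[F] F where
  toFun k := f ((k : Matrix ι ι F) *ᵥ u) v
  map_add' k k' := by
    show f (((k : Matrix ι ι F) + (k' : Matrix ι ι F)) *ᵥ u) v = _
    rw [Matrix.add_mulVec, hf.add_left]
  map_smul' c k := by
    show f ((c • (k : Matrix ι ι F)) *ᵥ u) v = _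
    rw [Matrix.smul_mulVec, hf.smul_left]
    rfl

/-- The `K`-valued form: `τ (k * kForm u v) = f (k u) v`. -/
noncomputable def kForm [Nonempty ι] {r : ℕ} (hK : IsFieldSubalgebra r K) {τ : K →ₗ[F] F} (hτ : τ ≠ 0)
    {f : (ι → F) → (ι → F) → F} (hf : IsBilinearForm f) (u v : ι → F) : K :=
  (dualEquiv hK hτ).symm (kFun hf u v)

theorem kForm_spec [Nonempty ι] {r : ℕ} (hK : IsFieldSubalgebra r K) {τ : K →ₗ[F] F} (hτ : τ ≠ 0)
    {f : (ι → F) → (ι → F) → F} (hf : IsBilinearForm f) (u v : ι → F) (k : K) :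
    τ (k * kForm hK hτ hf u v) = f ((k : Matrix ι ι F) *ᵥ u) v := by
  have h : dualMap τ (kForm hK hτ hf u v) = kFun hf u v := (dualEquiv hK hτ).apply_symm_apply _
  exact congrArg (fun g => g k) h

theorem kForm_unique [Nonempty ι] {r : ℕ} (hK : IsFieldSubalgebra r K) {τ : K →ₗ[F] F} (hτ : τ ≠ 0)
    {f : (ι → F) → (ι → F) → F} (hf : IsBilinearForm f) {u v : ι → F} {c : K}
    (h : ∀ k : K, τ (k * c) = f ((k : Matrix ι ι F) *ᵥ u) v) : kForm hK hτ hf u v = c := by
  apply dualMap_injective hK hτ
  ext1 k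
  rw [dualMap_apply, dualMap_apply, h, kForm_spec]

end KForm

/-- **Characteristic two: a self-adjoint field subalgebra has even codimension.** -/
theorem even_dim_of_selfAdjoint [Nonempty ι] [Finite F] {f : (ι → F) → (ι → F) → F} (hf : IsBilinearForm f)
    (halt : ∀ v, f v v = 0) (hnd : IsNondegenerateForm f) (h2 : (2 : F) = 0) {r : ℕ}
    {K : Subalgebra F (Matrix ι ι F)} (hK : IsFieldSubalgebra r K) (hsa : IsSelfAdjointFor f K) :
    ∃ m, Fintype.card ι = r * m ∧ Even m := by
  obtain ⟨τ, hτ⟩ := exists_tau K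
  let _ : Field K := (H912.isField_of_fieldSub hK).toField
  have : Finite K := Module.finite_of_finite F
  let B : LinearMap.BilinForm K (ι → F) := LinearMap.mk₂ K (fun u v => kForm hK hτ hf u v)
    (fun u u' v => kForm_unique hK hτ hf fun k => by
      rw [mul_add, map_add, kForm_spec, kForm_spec, Matrix.mulVec_add, hf.add_left])
    (fun c u v => kForm_unique hK hτ hf fun k => by
      have h1 : k * c • kForm hK hτ hf u v = (k * c) * kForm hK hτ hf u v := by rw [smul_eq_mul, mul_assoc]
      rw [h1, kForm_spec]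
      show f (((k : Matrix ι ι F) * (c : Matrix ι ι F)) *ᵥ u) v = f ((k : Matrix ι ι F) *ᵥ ((c : Matrix ι ι F) *ᵥ u)) v
      rw [Matrix.mulVec_mulVec])
    (fun u v v' => kForm_unique hK hτ hf fun k => by
      rw [mul_add, map_add, kForm_spec, kForm_spec, hf.add_right])
    (fun c u v => kForm_unique hK hτ hf fun k => by
      have h1 : k * c • kForm hK hτ hf u v = (c * k) * kForm hK hτ hf u v := by
        rw [smul_eq_mul, ← mul_assoc, mul_comm k c]
      rw [h1, kForm_spec]
      show f (((c : Matrix ι ι F) * (k : Matrix ι ι F)) *ᵥ u) v = f ((k : Matrix ι ι F) *ᵥ u) ((c : Matrix ι ι F) *ᵥ v)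
      rw [← Matrix.mulVec_mulVec, hsa c c.2])
  have h20 : (2 : K) = 0 := by
    have : (2 : K) = algebraMap F K 2 := by rw [map_ofNat]
    rw [this, h2, map_zero]
  have heven : Even (Module.finrank K (ι → F)) := by
    refine even_of_alt _ (ι → F) rfl B (fun v => ?_) (fun v hv => ?_)
    · refine kForm_unique hK hτ hf fun k => ?_
      obtain ⟨s, hs⟩ := exists_sq h20 k
      rw [mul_zero, map_zero, ← hs]
      show 0 = f (((s ^ 2 : K) : Matrix ι ι F) *ᵥ v) v
      have h1 : ((s ^ 2 : K) : Matrix ι ι F) = (s : Matrix ι ι F) * (s : Matrix ι ι F) := by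
        rw [pow_two]; rfl
      rw [h1, ← Matrix.mulVec_mulVec, hsa s s.2, halt]
    · by_contra h0
      obtain ⟨x, hx⟩ := (hnd v h0).2
      apply hx
      have h1 : kForm hK hτ hf v x = 0 := hv x
      have h3 := kForm_spec hK hτ hf v x 1
      rw [h1, mul_zero, map_zero] at h3
      rw [h3]
      show f v x = f (((1 : K) : Matrix ι ι F) *ᵥ v) x
      have h4 : ((1 : K) : Matrix ι ι F) = 1 := rfl
      rw [h4, Matrix.one_mulVec]
  refine ⟨Module.finrank K (ι → F), ?_, heven⟩
  have h1 := Module.finrank_mul_finrank F K (ι → F)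
  rw [hK.finrank_eq, Module.finrank_fintype_fun_eq_card] at h1
  exact h1.symm

end Cfsg.Agent.H926
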