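import Cfsg.Agent.H926.Deg
import Cfsg.Agent.H919.AschBurnside
set_option linter.all false

-- part: H926/Half
section
/-!
# Self-adjoint field subalgebras of degree `n / 2` (helper926)

`K` a self-adjoint field subalgebra of degree `r`, `card ι = 2 r`.
-/

set_option autoImplicit false
set_option linter.unusedSectionVars false

namespace Cfsg.Agent.H926

open QuadraticMap Matrix Cfsg.Geo
open Cfsg.Agent.H919 Cfsg.Agent.H924

variable {ι : Type} [Fintype ι] [DecidableEq ι] {F : Type*} [Field F]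

section KForm

variable [Nonempty ι] {r : ℕ} {K : Subalgebra F (Matrix ι ι F)} (hK : IsFieldSubalgebra r K) {τ : K →ₗ[F] F}
  (hτ : τ ≠ 0) {f : (ι → F) → (ι → F) → F} (hf : IsBilinearForm f)

theorem kForm_add_left (u u' v : ι → F) :
    kForm hK hτ hf (u + u') v = kForm hK hτ hf u v + kForm hK hτ hf u' v :=
  kForm_unique hK hτ hf fun k => by
    rw [mul_add, map_add, kForm_spec, kForm_spec, Matrix.mulVec_add, hf.add_left]

theorem kForm_add_right (u v v' : ι → F) :
    kForm hK hτ hf u (v + v') = kForm hK hτ hf u v + kForm hK hτ hf u v' :=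
  kForm_unique hK hτ hf fun k => by
    rw [mul_add, map_add, kForm_spec, kForm_spec, hf.add_right]

theorem kForm_smul_left (c : K) (u v : ι → F) :
    kForm hK hτ hf ((c : Matrix ι ι F) *ᵥ u) v = c * kForm hK hτ hf u v :=
  kForm_unique hK hτ hf fun k => by
    rw [← mul_assoc, kForm_spec, Matrix.mulVec_mulVec]
    rfl

theorem kForm_smul_right (hsa : IsSelfAdjointFor f K) (c : K) (u v : ι → F) :
    kForm hK hτ hf u ((c : Matrix ι ι F) *ᵥ v) = c * kForm hK hτ hf u v :=
  kForm_unique hK hτ hf fun k => by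
    have h1 : k * (c * kForm hK hτ hf u v) = (c * k) * kForm hK hτ hf u v := by
      rw [← mul_assoc]
      congr 1
      exact Subtype.ext (hK.comm _ k.2 _ c.2)
    rw [h1, kForm_spec, ← hsa c c.2, Matrix.mulVec_mulVec]
    rfl

theorem kForm_comm (hsa : IsSelfAdjointFor f K) (hsymm : ∀ u v, f u v = f v u) (u v : ι → F) :
    kForm hK hτ hf u v = kForm hK hτ hf v u :=
  kForm_unique hK hτ hf fun k => by
    rw [kForm_spec, hsa k k.2, hsymm]

theorem form_eq_zero_of_kForm {u v : ι → F} (h : kForm hK hτ hf u v = 0) : f u v = 0 := by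
  have h1 := kForm_spec hK hτ hf u v 1
  rw [h, mul_zero, map_zero] at h1
  rw [h1]
  show f u v = f ((1 : Matrix ι ι F) *ᵥ u) v
  rw [Matrix.one_mulVec]

/-- Adjointness over `K`. -/
theorem kForm_adj {x y : Matrix ι ι F} (hx : ∀ k ∈ K, x * k = k * x) (hxy : ∀ u v, f (x *ᵥ u) v = f u (y *ᵥ v))
    (u v : ι → F) : kForm hK hτ hf (x *ᵥ u) v = kForm hK hτ hf u (y *ᵥ v) :=
  kForm_unique hK hτ hf fun k => by
    rw [kForm_spec, Matrix.mulVec_mulVec, ← hx k k.2, ← Matrix.mulVec_mulVec, hxy]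

end KForm

/-- Two generators over a field subalgebra of degree `n / 2`, and non-commuting elements of the centraliser. -/
theorem exists_two_gen [Nonempty ι] {r : ℕ} {K : Subalgebra F (Matrix ι ι F)} (hK : IsFieldSubalgebra r K)
    (hn : Fintype.card ι = 2 * r) :
    (∃ e₁ e₂ : ι → F, ∀ v, ∃ a b : K, v = (a : Matrix ι ι F) *ᵥ e₁ + (b : Matrix ι ι F) *ᵥ e₂) ∧
    (∃ x y : Matrix ι ι F, (∀ k ∈ K, x * k = k * x) ∧ (∀ k ∈ K, y * k = k * y) ∧ x * y ≠ y * x) := by
  let _ : Field K := (H912.isField_of_fieldSub hK).toField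
  have hfr : Module.finrank K (ι → F) = 2 := by
    have h1 := Module.finrank_mul_finrank F K (ι → F)
    rw [hK.finrank_eq, Module.finrank_fintype_fun_eq_card, hn, mul_comm 2 r] at h1
    exact Nat.eq_of_mul_eq_mul_left (H912.finrank_pos_fieldSub hK) h1
  have : Module.Finite K (ι → F) := Module.finite_of_finrank_pos (by omega)
  let b := Module.finBasisOfFinrankEq K (ι → F) hfr
  constructor
  · refine ⟨b 0, b 1, fun v => ⟨b.repr v 0, b.repr v 1, ?_⟩⟩
    have := b.sum_repr v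
    rw [Fin.sum_univ_two] at this
    exact this.symm
  · -- rank one `K`-linear maps
    have hmk : ∀ T : (ι → F) →ₗ[K] (ι → F), ∃ x : Matrix ι ι F, (∀ v, x *ᵥ v = T v) ∧ (∀ k ∈ K, x * k = k * x) := by
      intro T
      refine ⟨LinearMap.toMatrix' (T.restrictScalars F), fun v => ?_, fun k hk => ?_⟩
      · rw [LinearMap.toMatrix'_mulVec]; rfl
      · apply Matrix.toLin'.injective
        apply LinearMap.ext
        intro v
        rw [Matrix.toLin'_apply, Matrix.toLin'_apply, ← Matrix.mulVec_mulVec, ← Matrix.mulVec_mulVec,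
          LinearMap.toMatrix'_mulVec, LinearMap.toMatrix'_mulVec]
        exact T.map_smul ⟨k, hk⟩ v
    obtain ⟨x, hx, hxK⟩ := hmk (b.constr K ![b 1, 0])
    obtain ⟨y, hy, hyK⟩ := hmk (b.constr K ![0, b 0])
    refine ⟨x, y, hxK, hyK, fun hcomm => ?_⟩
    have h1 : (x * y) *ᵥ (b 0) = (y * x) *ᵥ (b 0) := by rw [hcomm]
    rw [← Matrix.mulVec_mulVec, ← Matrix.mulVec_mulVec, hy, hx, hx, Module.Basis.constr_basis, Module.Basis.constr_basis] at h1
    simp only [Matrix.cons_val_zero, map_zero] at h1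
    rw [hy, Module.Basis.constr_basis] at h1
    simp only [Matrix.cons_val_one] at h1
    exact b.ne_zero 0 h1.symm

section Odd

variable [Nonempty ι] {r : ℕ} {K : Subalgebra F (Matrix ι ι F)} {f : (ι → F) → (ι → F) → F}

/-- Skew elements of the centraliser. -/
def IsSkewFor (f : (ι → F) → (ι → F) → F) (K : Subalgebra F (Matrix ι ι F)) (x : Matrix ι ι F) : Prop :=
  (∀ k ∈ K, x * k = k * x) ∧ ∀ u v, f (x *ᵥ u) v = f u ((-x) *ᵥ v)

theorem IsSkewFor.sub_smul (hf : IsBilinearForm f) (hK : IsFieldSubalgebra r K) (hsa : IsSelfAdjointFor f K)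
    {x y : Matrix ι ι F} (hx : IsSkewFor f K x) (hy : IsSkewFor f K y) {k : Matrix ι ι F} (hk : k ∈ K) :
    IsSkewFor f K (y - k * x) := by
  refine ⟨fun l hl => ?_, fun u v => ?_⟩
  · rw [sub_mul, mul_sub, hy.1 l hl, mul_assoc, hx.1 l hl, ← mul_assoc, ← mul_assoc, hK.comm k hk l hl]
  · have h1 : f (y *ᵥ u) v = - f u (y *ᵥ v) := by
      rw [hy.2, Matrix.neg_mulVec]
      have := hf.smul_right (-1) u (y *ᵥ v)
      rwa [neg_one_smul, neg_one_mul] at this
    have h2 : f ((k * x) *ᵥ u) v = - f u ((k * x) *ᵥ v) := by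
      rw [← Matrix.mulVec_mulVec, hsa k hk, hx.2, Matrix.neg_mulVec, Matrix.mulVec_mulVec, hx.1 k hk]
      have := hf.smul_right (-1) u ((k * x) *ᵥ v)
      rwa [neg_one_smul, neg_one_mul] at this
    have h3 : f ((y - k * x) *ᵥ u) v = f (y *ᵥ u) v - f ((k * x) *ᵥ u) v := by
      rw [Matrix.sub_mulVec, sub_eq_add_neg, hf.add_left]
      have := hf.smul_left (-1) ((k * x) *ᵥ u) v
      rw [neg_one_smul, neg_one_mul] at this
      rw [this, sub_eq_add_neg]
    have h4 : f u ((-(y - k * x)) *ᵥ v) = - f u (y *ᵥ v) + f u ((k * x) *ᵥ v) := by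
      have h5 : (-(y - k * x)) *ᵥ v = (-1 : F) • (y *ᵥ v) + (k * x) *ᵥ v := by
        rw [neg_sub, Matrix.sub_mulVec, neg_one_smul]
        abel
      rw [h5, hf.add_right, hf.smul_right, neg_one_mul]
    rw [h3, h4, h1, h2]
    ring

/-- A skew element vanishing on a generating pair vanishes. -/
theorem IsSkewFor.eq_zero (hf : IsBilinearForm f) (hsymm : ∀ u v, f u v = f v u) (hnd : IsNondegenerateForm f)
    (h2 : (2 : F) ≠ 0) (hK : IsFieldSubalgebra r K) (hsa : IsSelfAdjointFor f K) {τ : K →ₗ[F] F} (hτ : τ ≠ 0)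
    {e₁ e₂ : ι → F} (hspan : ∀ v, ∃ a b : K, v = (a : Matrix ι ι F) *ᵥ e₁ + (b : Matrix ι ι F) *ᵥ e₂)
    {x : Matrix ι ι F} (hx : IsSkewFor f K x) (h0 : kForm hK hτ hf (x *ᵥ e₁) e₂ = 0) : x = 0 := by
  have hneg : ∀ u v, kForm hK hτ hf u (-v) = - kForm hK hτ hf u v := by
    intro u v
    refine kForm_unique hK hτ hf fun k => ?_
    have h1 : k * -kForm hK hτ hf u v = -(k * kForm hK hτ hf u v) := Subtype.ext (mul_neg _ _)
    rw [h1, map_neg, kForm_spec, ← neg_one_smul F v, hf.smul_right, neg_one_mul]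
  have hskew : ∀ u v, kForm hK hτ hf (x *ᵥ u) v = - kForm hK hτ hf (x *ᵥ v) u := by
    intro u v
    rw [kForm_adj hK hτ hf hx.1 hx.2, Matrix.neg_mulVec, hneg, kForm_comm hK hτ hf hsa hsymm]
  have h2K : ∀ a : K, a = -a → a = 0 := by
    intro a ha
    have h3 : (2 : F) • a = 0 := by
      rw [two_smul]
      nth_rw 2 [ha]
      rw [add_neg_cancel]
    rcases smul_eq_zero.1 h3 with h | h
    · exact absurd h h2
    · exact h
  have h11 : kForm hK hτ hf (x *ᵥ e₁) e₁ = 0 := h2K _ (hskew e₁ e₁)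
  have h22 : kForm hK hτ hf (x *ᵥ e₂) e₂ = 0 := h2K _ (hskew e₂ e₂)
  have h21 : kForm hK hτ hf (x *ᵥ e₂) e₁ = 0 := by rw [hskew, h0, neg_zero]
  have hall : ∀ u v, f (x *ᵥ u) v = 0 := by
    intro u v
    apply form_eq_zero_of_kForm hK hτ hf
    obtain ⟨a, b, rfl⟩ := hspan u
    obtain ⟨c, d, rfl⟩ := hspan v
    rw [Matrix.mulVec_add, Matrix.mulVec_mulVec, Matrix.mulVec_mulVec, hx.1 a a.2, hx.1 b b.2,
      ← Matrix.mulVec_mulVec, ← Matrix.mulVec_mulVec, kForm_add_left, kForm_add_right, kForm_add_right,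
      kForm_smul_left, kForm_smul_left, kForm_smul_left, kForm_smul_left,
      kForm_smul_right hK hτ hf hsa, kForm_smul_right hK hτ hf hsa, kForm_smul_right hK hτ hf hsa,
      kForm_smul_right hK hτ hf hsa, h11, h22, h21, h0]
    simp
  apply Matrix.toLin'.injective
  apply LinearMap.ext
  intro u
  rw [Matrix.toLin'_apply, map_zero, LinearMap.zero_apply]
  by_contra hne
  obtain ⟨v, hv⟩ := (hnd _ hne).2
  exact hv (hall u v)

/-- The skew elements of the centraliser form a `K`-line. -/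
theorem IsSkewFor.exists_smul (hf : IsBilinearForm f) (hsymm : ∀ u v, f u v = f v u) (hnd : IsNondegenerateForm f)
    (h2 : (2 : F) ≠ 0) (hK : IsFieldSubalgebra r K) (hsa : IsSelfAdjointFor f K) (hn : Fintype.card ι = 2 * r)
    {x y : Matrix ι ι F} (hx : IsSkewFor f K x) (hx0 : x ≠ 0) (hy : IsSkewFor f K y) :
    ∃ k ∈ K, y = k * x := by
  obtain ⟨τ, hτ⟩ := exists_tau K
  obtain ⟨⟨e₁, e₂, hspan⟩, -⟩ := exists_two_gen hK hn
  have hc : kForm hK hτ hf (x *ᵥ e₁) e₂ ≠ 0 := fun h =>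
    hx0 (hx.eq_zero hf hsymm hnd h2 hK hsa hτ hspan h)
  obtain ⟨c', hc', hcc⟩ := hK.inv _ (kForm hK hτ hf (x *ᵥ e₁) e₂).2 (fun h => hc (Subtype.ext h))
  let k : K := kForm hK hτ hf (y *ᵥ e₁) e₂ * ⟨c', hc'⟩
  refine ⟨k, k.2, ?_⟩
  have h0 : kForm hK hτ hf ((y - (k : Matrix ι ι F) * x) *ᵥ e₁) e₂ = 0 := by
    have h1 : (y - (k : Matrix ι ι F) * x) *ᵥ e₁ = y *ᵥ e₁ + (((-k : K) : Matrix ι ι F)) *ᵥ (x *ᵥ e₁) := by
      rw [Matrix.sub_mulVec, ← Matrix.mulVec_mulVec, sub_eq_add_neg, ← Matrix.neg_mulVec]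
      rfl
    rw [h1, kForm_add_left, kForm_smul_left]
    apply Subtype.ext
    show (kForm hK hτ hf (y *ᵥ e₁) e₂ : Matrix ι ι F) +
      -((kForm hK hτ hf (y *ᵥ e₁) e₂ : Matrix ι ι F) * c') * (kForm hK hτ hf (x *ᵥ e₁) e₂ : Matrix ι ι F) = 0
    rw [neg_mul, mul_assoc, hK.comm c' hc' _ (kForm hK hτ hf (x *ᵥ e₁) e₂).2, hcc, mul_one, add_neg_cancel]
  exact sub_eq_zero.1 ((hx.sub_smul hf hK hsa hy k.2).eq_zero hf hsymm hnd h2 hK hsa hτ hspan h0)

/-- There is a nonzero skew element of the centraliser. -/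
theorem exists_skew (hf : HermForm (RingEquiv.refl F) 1 f) (hb : IsBilinearForm f)
    (hK : IsFieldSubalgebra r K) (hsa : IsSelfAdjointFor f K)
    (hn : Fintype.card ι = 2 * r) : ∃ x, IsSkewFor f K x ∧ x ≠ 0 := by
  by_contra hc
  push Not at hc
  have hKfix : ∀ k ∈ K, adjM (RingEquiv.refl F) f k = k := fun k hk => adjM_eq hf (hsa k hk)
  have hstC : ∀ x : Matrix ι ι F, (∀ k ∈ K, x * k = k * x) → ∀ k ∈ K, adjM (RingEquiv.refl F) f x * k = k * adjM (RingEquiv.refl F) f x := by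
    intro x hx k hk
    have := congrArg (adjM (RingEquiv.refl F) f) (hx k hk)
    rw [adjM_mul hf, adjM_mul hf, hKfix k hk] at this
    exact this.symm
  have hfix : ∀ x : Matrix ι ι F, (∀ k ∈ K, x * k = k * x) → adjM (RingEquiv.refl F) f x = x := by
    intro x hx
    have h1 : IsSkewFor f K (x - adjM (RingEquiv.refl F) f x) := by
      refine ⟨fun k hk => by rw [sub_mul, mul_sub, hx k hk, hstC x hx k hk], fun u v => ?_⟩
      have h3 : IsAdj f (x - adjM (RingEquiv.refl F) f x) (-(x - adjM (RingEquiv.refl F) f x)) := by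
        have h4 := isAdj_adjM hf (x - adjM (RingEquiv.refl F) f x)
        have h5 : adjM (RingEquiv.refl F) f (x - adjM (RingEquiv.refl F) f x) = -(x - adjM (RingEquiv.refl F) f x) := by
          rw [sub_eq_add_neg, ← neg_one_smul F (adjM (RingEquiv.refl F) f x), adjM_add hf, adjM_smul hf, adjM_adjM hf]
          simp only [RingEquiv.refl_apply, neg_smul, one_smul]
          abel
        rwa [h5] at h4
      exact h3 u v
    exact (sub_eq_zero.1 (hc _ h1)).symm
  obtain ⟨-, x, y, hx, hy, hxy⟩ := exists_two_gen hK hn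
  apply hxy
  have hxyC : ∀ k ∈ K, (x * y) * k = k * (x * y) := by
    intro k hk
    rw [mul_assoc, hy k hk, ← mul_assoc, hx k hk, mul_assoc]
  have h1 := hfix (x * y) hxyC
  rw [adjM_mul hf] at h1
  rw [← h1]
  rw [hfix x hx, hfix y hy]

end Odd

end Cfsg.Agent.H926
end

-- part: H926/Over
section
/-!
# Half-degree fields: reduction to degree two (helper926)

`comm_over` : a commutative adjoint-closed algebra properly containing a field of degree `n / 2`, normalised by an
irreducible group of isometries ⇒ C2a, C2b or a degree-two field.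
`half_cases` (odd characteristic), `half_cases_two` (characteristic two).
-/

set_option autoImplicit false
set_option linter.unusedSectionVars false

namespace Cfsg.Agent.H926

open QuadraticMap Matrix Cfsg.Geo
open Cfsg.Agent.H919 Cfsg.Agent.H924

variable {ι : Type} [Fintype ι] [DecidableEq ι] {F : Type*} [Field F]

theorem comm_over [Nonempty ι] [Finite F] {σ : F ≃+* F} {ε : F} {f : (ι → F) → (ι → F) → F} (hf : HermForm σ ε f)
    {H : Subgroup (GL ι F)} (hirr : ActsIrreducibly (matrixSet H))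
    (hH : ∀ g ∈ H, ∀ u v, f ((g : Matrix ι ι F) *ᵥ u) ((g : Matrix ι ι F) *ᵥ v) = f u v)
    {C : Subalgebra F (Matrix ι ι F)} (hN : H ≤ subalgebraNormalizer C)
    (hcomm : ∀ x ∈ C, ∀ y ∈ C, x * y = y * x) (hC : IsAdjointClosedFor f C)
    {r : ℕ} {K : Subalgebra F (Matrix ι ι F)} (hK : IsFieldSubalgebra r K) (hn : Fintype.card ι = 2 * r)
    (hKC : K < C) :
    (∃ (t m : ℕ) (D : Fin t → Submodule F (ι → F)), IsNondegenerateMDecomposition f m D ∧
      H ≤ decompositionStabilizer D ∧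
      (∀ i j, ∃ h ∈ H, (D i).map (Matrix.toLin' (h : Matrix ι ι F)) = D j)) ∨
    (∃ (m : ℕ) (D : Fin 2 → Submodule F (ι → F)), IsMDecomposition m D ∧
      (∀ i, IsTotallySingularFor f (D i)) ∧ H ≤ decompositionStabilizer D) ∨
    (∃ K₂ : Subalgebra F (Matrix ι ι F), IsFieldSubalgebra 2 K₂ ∧
      IsAdjointClosedFor f K₂ ∧ H ≤ subalgebraNormalizer K₂) := by
  have hN' := normalises_iff_le.mpr hN
  obtain ⟨t, e, h1, h2, h3, h4⟩ := exists_idems hirr hN' hcomm
  have hE : IdemSystem C t e := ⟨h1, h2, h3, h4⟩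
  rcases Nat.lt_or_ge t 2 with ht | ht
  · have ht1 : t = 1 := by
      rcases Nat.eq_zero_or_pos t with h | h
      · subst h
        exfalso
        have : (0 : Matrix ι ι F) = 1 := by simpa using h3
        exact zero_ne_one this
      · omega
    subst ht1
    have hinv := field_of_one hE
    have hCF : IsFieldSubalgebra (Module.finrank F C) C := ⟨hcomm, hinv, rfl⟩
    have hdvd : Module.finrank F C ∣ Fintype.card ι := H912.finrank_dvd_of_fieldSub hCF
    have hlt : r < Module.finrank F C := by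
      rw [← hK.finrank_eq]
      exact Submodule.finrank_lt_finrank_of_lt (s := Subalgebra.toSubmodule K) (t := Subalgebra.toSubmodule C) hKC
    have heq : Module.finrank F C = 2 * r := by
      obtain ⟨s, hs⟩ := hdvd
      rw [hn] at hs
      have hs0 : 0 < s := by
        rcases Nat.eq_zero_or_pos s with h | h
        · subst h
          rw [mul_zero] at hs
          have := H912.finrank_pos_fieldSub hK
          omega
        · exact h
      have hs2 : s < 2 := by
        by_contra hcon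
        have : Module.finrank F C * 2 ≤ Module.finrank F C * s := Nat.mul_le_mul_left _ (by omega)
        omega
      have : s = 1 := by omega
      rw [this, mul_one] at hs
      exact hs.symm
    obtain ⟨K₂, _, hK₂, hHK, hKf⟩ := exists_prime_subfield hN' hcomm hinv 2 Nat.prime_two (by
      rw [heq]; exact dvd_mul_right 2 r)
    exact Or.inr (Or.inr ⟨K₂, hK₂, hKf σ ε f hf hC, hHK⟩)
  · rcases imprimitive_of_comm hf hirr hH hN' hcomm hC hE ht with h | h
    · left; exact h
    · right; left; exact h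

/-- The algebra generated by a commuting set. -/
theorem adjoin_comm {S : Set (Matrix ι ι F)} (hS : ∀ x ∈ S, ∀ y ∈ S, x * y = y * x) :
    ∀ x ∈ Algebra.adjoin F S, ∀ y ∈ Algebra.adjoin F S, x * y = y * x := by
  intro x hx y hy
  have h1 : ∀ s ∈ S, ∀ a ∈ Algebra.adjoin F S, s * a = a * s := fun s hs =>
    commute_adjoin (fun s' hs' => hS s hs s' hs')
  exact commute_adjoin (S := S) (M := x) (fun s hs => (h1 s hs x hx).symm) y hy

/-- A generating set invariant under conjugation by `H`. -/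
theorem le_normalizer_adjoin_set {S : Set (Matrix ι ι F)} {H : Subgroup (GL ι F)}
    (hS : ∀ h ∈ H, ∀ s ∈ S, (h : Matrix ι ι F) * s * ((h⁻¹ : GL ι F) : Matrix ι ι F) ∈ S) :
    H ≤ subalgebraNormalizer (Algebra.adjoin F S) := by
  rw [← normalises_iff_le]
  have key : ∀ h ∈ H, ∀ c ∈ Algebra.adjoin F S, conjM h c ∈ Algebra.adjoin F S := by
    intro h hh c hc
    induction hc using Algebra.adjoin_induction with
    | mem x hx => exact Algebra.subset_adjoin (hS h hh x hx)
    | algebraMap a => rw [AlgEquiv.commutes]; exact Subalgebra.algebraMap_mem _ a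
    | add x y _ _ hx hy => rw [map_add]; exact Subalgebra.add_mem _ hx hy
    | mul x y _ _ hx hy => rw [map_mul]; exact Subalgebra.mul_mem _ hx hy
  intro h hh c hc
  exact key h hh c hc

/-- A generating set closed under adjoints. -/
theorem adjointClosed_adjoin {σ : F ≃+* F} {ε : F} {f : (ι → F) → (ι → F) → F} (hf : HermForm σ ε f)
    {S : Set (Matrix ι ι F)} (hS : ∀ s ∈ S, adjM σ f s ∈ S) : IsAdjointClosedFor f (Algebra.adjoin F S) := by
  apply isAdjointClosedFor_of hf
  intro c hc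
  induction hc using Algebra.adjoin_induction with
  | mem x hx => exact Algebra.subset_adjoin (hS x hx)
  | algebraMap a =>
    rw [Algebra.algebraMap_eq_smul_one, adjM_smul hf, adjM_one hf, ← Algebra.algebraMap_eq_smul_one]
    exact Subalgebra.algebraMap_mem _ _
  | add x y _ _ hx hy => rw [adjM_add hf]; exact Subalgebra.add_mem _ hx hy
  | mul x y _ _ hx hy => rw [adjM_mul hf]; exact Subalgebra.mul_mem _ hy hx

theorem conj_adj {f : (ι → F) → (ι → F) → F} {g : GL ι F}
    (hg : ∀ u v, f ((g : Matrix ι ι F) *ᵥ u) ((g : Matrix ι ι F) *ᵥ v) = f u v) {x y : Matrix ι ι F}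
    (hxy : ∀ u v, f (x *ᵥ u) v = f u (y *ᵥ v)) (u v : ι → F) :
    f (((g : Matrix ι ι F) * x * ((g⁻¹ : GL ι F) : Matrix ι ι F)) *ᵥ u) v =
      f u (((g : Matrix ι ι F) * y * ((g⁻¹ : GL ι F) : Matrix ι ι F)) *ᵥ v) := by
  have hgi : ∀ w, (g : Matrix ι ι F) *ᵥ (((g⁻¹ : GL ι F) : Matrix ι ι F) *ᵥ w) = w := by
    intro w
    rw [Matrix.mulVec_mulVec, ← Units.val_mul, mul_inv_cancel, Units.val_one, Matrix.one_mulVec]
  have h1 : f (((g : Matrix ι ι F) * x * ((g⁻¹ : GL ι F) : Matrix ι ι F)) *ᵥ u) v =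
      f (x *ᵥ (((g⁻¹ : GL ι F) : Matrix ι ι F) *ᵥ u)) (((g⁻¹ : GL ι F) : Matrix ι ι F) *ᵥ v) := by
    rw [← hg (x *ᵥ (((g⁻¹ : GL ι F) : Matrix ι ι F) *ᵥ u)), hgi, ← Matrix.mulVec_mulVec, ← Matrix.mulVec_mulVec]
  have h2 : f u (((g : Matrix ι ι F) * y * ((g⁻¹ : GL ι F) : Matrix ι ι F)) *ᵥ v) =
      f (((g⁻¹ : GL ι F) : Matrix ι ι F) *ᵥ u) (y *ᵥ (((g⁻¹ : GL ι F) : Matrix ι ι F) *ᵥ v)) := by
    rw [← hg (((g⁻¹ : GL ι F) : Matrix ι ι F) *ᵥ u), hgi, ← Matrix.mulVec_mulVec, ← Matrix.mulVec_mulVec]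
  rw [h1, h2, hxy]

/-- conjugation preserves the centraliser of a normalised subalgebra -/
theorem conj_centralizes {K : Subalgebra F (Matrix ι ι F)} {g : GL ι F} (hg : g ∈ subalgebraNormalizer K)
    {x : Matrix ι ι F} (hx : ∀ k ∈ K, x * k = k * x) :
    ∀ k ∈ K, ((g : Matrix ι ι F) * x * ((g⁻¹ : GL ι F) : Matrix ι ι F)) * k =
      k * ((g : Matrix ι ι F) * x * ((g⁻¹ : GL ι F) : Matrix ι ι F)) := by
  intro k hk
  have hgg : (g : Matrix ι ι F) * ((g⁻¹ : GL ι F) : Matrix ι ι F) = 1 := by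
    rw [← Units.val_mul, mul_inv_cancel, Units.val_one]
  have hk' : ((g⁻¹ : GL ι F) : Matrix ι ι F) * k * (g : Matrix ι ι F) ∈ K := by
    have := ((subalgebraNormalizer K).inv_mem hg k).1 hk
    rwa [inv_inv] at this
  have h1 := hx _ hk'
  calc ((g : Matrix ι ι F) * x * ((g⁻¹ : GL ι F) : Matrix ι ι F)) * k
      = (g : Matrix ι ι F) * (x * (((g⁻¹ : GL ι F) : Matrix ι ι F) * k * (g : Matrix ι ι F))) *
          ((g⁻¹ : GL ι F) : Matrix ι ι F) := by
        simp only [mul_assoc, hgg, mul_one]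
    _ = ((g : Matrix ι ι F) * ((g⁻¹ : GL ι F) : Matrix ι ι F)) * k * ((g : Matrix ι ι F) * x *
          ((g⁻¹ : GL ι F) : Matrix ι ι F)) := by
        rw [h1]; simp only [mul_assoc]
    _ = _ := by rw [hgg, one_mul]

/-- **Half-degree fields, odd characteristic.** -/
theorem half_cases [Nonempty ι] [Finite F] {f : (ι → F) → (ι → F) → F} (hf : HermForm (RingEquiv.refl F) 1 f)
    (h2 : (2 : F) ≠ 0) {H : Subgroup (GL ι F)} (hirr : ActsIrreducibly (matrixSet H))
    (hH : ∀ g ∈ H, ∀ u v, f ((g : Matrix ι ι F) *ᵥ u) ((g : Matrix ι ι F) *ᵥ v) = f u v)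
    {r : ℕ} {K : Subalgebra F (Matrix ι ι F)} (hK : IsFieldSubalgebra r K) (hsa : IsSelfAdjointFor f K)
    (hn : Fintype.card ι = 2 * r) (hN : H ≤ subalgebraNormalizer K) :
    (∃ (t m : ℕ) (D : Fin t → Submodule F (ι → F)), IsNondegenerateMDecomposition f m D ∧
      H ≤ decompositionStabilizer D ∧
      (∀ i j, ∃ h ∈ H, (D i).map (Matrix.toLin' (h : Matrix ι ι F)) = D j)) ∨
    (∃ (m : ℕ) (D : Fin 2 → Submodule F (ι → F)), IsMDecomposition m D ∧
      (∀ i, IsTotallySingularFor f (D i)) ∧ H ≤ decompositionStabilizer D) ∨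
    (∃ K₂ : Subalgebra F (Matrix ι ι F), IsFieldSubalgebra 2 K₂ ∧
      IsAdjointClosedFor f K₂ ∧ H ≤ subalgebraNormalizer K₂) := by
  have hb : IsBilinearForm f := ⟨hf.add_left, hf.smul_left, hf.add_right, fun c v x => hf.smul_right v c x⟩
  have hsymm : ∀ u v, f u v = f v u := fun u v => by
    have := hf.herm u v
    rwa [one_mul] at this
  obtain ⟨x, hx, hx0⟩ := exists_skew hf hb hK hsa hn
  let S : Set (Matrix ι ι F) := {y | y ∈ K ∨ IsSkewFor f K y}
  have hadjskew : ∀ y, IsSkewFor f K y → adjM (RingEquiv.refl F) f y = -y := fun y hy => adjM_eq hf hy.2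
  have hScomm : ∀ y ∈ S, ∀ z ∈ S, y * z = z * y := by
    rintro y (hy | hy) z (hz | hz)
    · exact hK.comm y hy z hz
    · exact (hz.1 y hy).symm
    · exact hy.1 z hz
    · obtain ⟨k, hk, rfl⟩ := hx.exists_smul hb hsymm hf.nondegenerate h2 hK hsa hn hx0 hy
      obtain ⟨l, hl, rfl⟩ := hx.exists_smul hb hsymm hf.nondegenerate h2 hK hsa hn hx0 hz
      calc k * x * (l * x) = k * (x * l) * x := by simp only [mul_assoc]
        _ = k * (l * x) * x := by rw [hx.1 l hl]
        _ = (k * l) * x * x := by simp only [mul_assoc]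
        _ = (l * k) * x * x := by rw [hK.comm k hk l hl]
        _ = l * (k * x) * x := by simp only [mul_assoc]
        _ = l * (x * k) * x := by rw [hx.1 k hk]
        _ = l * x * (k * x) := by simp only [mul_assoc]
  have hSconj : ∀ h ∈ H, ∀ s ∈ S, (h : Matrix ι ι F) * s * ((h⁻¹ : GL ι F) : Matrix ι ι F) ∈ S := by
    rintro h hh s (hs | hs)
    · exact Or.inl ((hN hh s).1 hs)
    · refine Or.inr ⟨conj_centralizes (hN hh) hs.1, fun u v => ?_⟩
      rw [conj_adj (hH h hh) hs.2]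
      rw [mul_neg, neg_mul]
  have hSadj : ∀ s ∈ S, adjM (RingEquiv.refl F) f s ∈ S := by
    rintro s (hs | hs)
    · left
      rw [adjM_eq hf (hsa s hs)]
      exact hs
    · right
      rw [hadjskew s hs]
      refine ⟨fun k hk => by rw [neg_mul, mul_neg, hs.1 k hk], fun u v => ?_⟩
      have h1 := isAdj_adjM hf (-s)
      have h3 : adjM (RingEquiv.refl F) f (-s) = - -s := by
        rw [← neg_one_smul F s, adjM_smul hf, hadjskew s hs]
        simp
      rw [h3] at h1
      exact h1 u v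
  refine comm_over hf hirr hH (le_normalizer_adjoin_set hSconj) (adjoin_comm hScomm)
    (adjointClosed_adjoin hf hSadj) hK hn ?_
  refine lt_of_le_of_ne (fun y hy => Algebra.subset_adjoin (Or.inl hy)) (fun heq => ?_)
  have hxK : x ∈ K := by
    rw [heq]; exact Algebra.subset_adjoin (Or.inr hx)
  apply hx0
  have h3 : adjM (RingEquiv.refl F) f x = x := adjM_eq hf (hsa x hxK)
  rw [hadjskew x hx] at h3
  have h4 : (2 : F) • x = 0 := by
    rw [two_smul]
    nth_rw 1 [← h3]
    rw [neg_add_cancel]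
  rcases smul_eq_zero.1 h4 with h | h
  · exact absurd h h2
  · exact h

end Cfsg.Agent.H926
end

-- part: H926/OverTwo
section
/-!
# Half-degree fields in characteristic two (helper926)

`half_cases_two` : `Q` nondegenerate in characteristic two, `K` a self-adjoint field subalgebra of degree `n / 2`
normalised by the irreducible group `H` of isometries of `Q` ⇒ C2a, C2b or a degree-two field.
-/

set_option autoImplicit false
set_option linter.unusedSectionVars false

namespace Cfsg.Agent.H926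

open QuadraticMap Matrix Cfsg.Geo
open Cfsg.Agent.H919 Cfsg.Agent.H924

variable {ι : Type} [Fintype ι] [DecidableEq ι] {F : Type*} [Field F]

theorem sq_inj_of_two {R : Type*} [CommRing R] [IsDomain R] (h2 : (2 : R) = 0) {a b : R} (h : a ^ 2 = b ^ 2) :
    a = b := by
  have h1 : (a - b) ^ 2 = 0 := by linear_combination h + (b ^ 2 - a * b) * h2
  exact sub_eq_zero.1 (pow_eq_zero_iff (two_ne_zero) |>.1 h1)

theorem form_self_eq_zero_two [Nonempty ι] [Finite F] {f : (ι → F) → (ι → F) → F}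
    (halt : ∀ v, f v v = 0) (h2 : (2 : F) = 0) {r : ℕ}
    {K : Subalgebra F (Matrix ι ι F)} (hK : IsFieldSubalgebra r K) (hsa : IsSelfAdjointFor f K) :
    ∀ k ∈ K, ∀ v, f (k *ᵥ v) v = 0 := by
  let _ : Field K := (H912.isField_of_fieldSub hK).toField
  have : Finite K := Module.finite_of_finite F
  have h20 : (2 : K) = 0 := by
    have : (2 : K) = algebraMap F K 2 := by rw [map_ofNat]
    rw [this, h2, map_zero]
  intro k hk v
  obtain ⟨s, hs⟩ := exists_sq h20 (⟨k, hk⟩ : K)
  have h1 : k = (s : Matrix ι ι F) * (s : Matrix ι ι F) := by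
    have := congrArg Subtype.val hs
    rw [pow_two] at this
    exact this.symm
  rw [h1, ← Matrix.mulVec_mulVec, hsa s s.2, halt]

/-- Elements of the centraliser with `f v (ℓ v) = 0` are in `K` (characteristic two). -/
theorem mem_of_alt_two [Nonempty ι] [Finite F] {f : (ι → F) → (ι → F) → F} (hf : IsBilinearForm f)
    (hsymm : ∀ u v, f u v = f v u) (hnd : IsNondegenerateForm f)
    (halt : ∀ v, f v v = 0) (h2 : (2 : F) = 0) {r : ℕ}
    {K : Subalgebra F (Matrix ι ι F)} (hK : IsFieldSubalgebra r K) (hsa : IsSelfAdjointFor f K)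
    (hn : Fintype.card ι = 2 * r) {ℓ : Matrix ι ι F} (hℓ : ∀ k ∈ K, ℓ * k = k * ℓ)
    (h0 : ∀ v, f v (ℓ *ᵥ v) = 0) : ℓ ∈ K := by
  obtain ⟨τ, hτ⟩ := exists_tau K
  obtain ⟨⟨e₁, e₂, hspan⟩, -⟩ := exists_two_gen hK hn
  have hself := form_self_eq_zero_two halt h2 hK hsa
  -- square roots in `K`
  have hroot : ∀ k : K, ∃ s : K, (k : Matrix ι ι F) = (s : Matrix ι ι F) * (s : Matrix ι ι F) := by
    let _ : Field K := (H912.isField_of_fieldSub hK).toField
    have : Finite K := Module.finite_of_finite F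
    have h20 : (2 : K) = 0 := by
      have : (2 : K) = algebraMap F K 2 := by rw [map_ofNat]
      rw [this, h2, map_zero]
    intro k
    obtain ⟨s, hs⟩ := exists_sq h20 k
    refine ⟨s, ?_⟩
    have := congrArg Subtype.val hs
    rw [pow_two] at this
    exact this.symm
  set B := kForm hK hτ hf with hB
  have hBl : ∀ v, B v (ℓ *ᵥ v) = 0 := by
    intro v
    refine kForm_unique hK hτ hf fun k => ?_
    obtain ⟨s, hs⟩ := hroot k
    rw [mul_zero, map_zero, hs, ← Matrix.mulVec_mulVec, hsa s s.2, Matrix.mulVec_mulVec, ← hℓ s s.2,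
      ← Matrix.mulVec_mulVec, h0]
  have hBB : ∀ v, B v v = 0 := by
    intro v
    refine kForm_unique hK hτ hf fun k => ?_
    rw [mul_zero, map_zero, hself k k.2]
  have hadd_l : ∀ u u' v, B (u + u') v = B u v + B u' v := kForm_add_left hK hτ hf
  have hadd_r : ∀ u v v', B u (v + v') = B u v + B u v' := kForm_add_right hK hτ hf
  have hBsymm : ∀ u v, B u v = B v u := kForm_comm hK hτ hf hsa hsymm
  have h2K : ∀ a : K, a + a = 0 := by
    intro a
    rw [← two_smul F a, h2, zero_smul]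
  have hBl2 : ∀ u v, B u (ℓ *ᵥ v) = B v (ℓ *ᵥ u) := by
    intro u v
    have h1 := hBl (u + v)
    rw [Matrix.mulVec_add, hadd_l, hadd_r, hadd_r, hBl, hBl, zero_add, add_zero] at h1
    have h3 := h2K (B v (ℓ *ᵥ u))
    rw [← h3] at h1
    exact add_right_cancel h1
  -- `B e₁ e₂ ≠ 0`
  have hb0 : B e₁ e₂ ≠ 0 := by
    intro hb
    have hall : ∀ u v, B u v = 0 := by
      intro u v
      obtain ⟨a, b, rfl⟩ := hspan u
      obtain ⟨c, d, rfl⟩ := hspan v
      rw [hadd_l, hadd_r, hadd_r, hB, kForm_smul_left, kForm_smul_left, kForm_smul_left, kForm_smul_left,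
        kForm_smul_right hK hτ hf hsa, kForm_smul_right hK hτ hf hsa, kForm_smul_right hK hτ hf hsa,
        kForm_smul_right hK hτ hf hsa, ← hB, hBB, hBB, hb, hBsymm e₂ e₁, hb]
      simp
    obtain ⟨i⟩ := (inferInstance : Nonempty ι)
    have hne : (Pi.single i 1 : ι → F) ≠ 0 := by
      intro h
      have := congrFun h i
      simp at this
    obtain ⟨y, hy⟩ := (hnd _ hne).2
    exact hy (form_eq_zero_of_kForm hK hτ hf (hall _ y))
  obtain ⟨b', hb', hbb⟩ := hK.inv _ (B e₁ e₂).2 (fun h => hb0 (Subtype.ext h))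
  let k : K := B e₁ (ℓ *ᵥ e₂) * ⟨b', hb'⟩
  have hk : k * B e₁ e₂ = B e₁ (ℓ *ᵥ e₂) := by
    apply Subtype.ext
    show ((B e₁ (ℓ *ᵥ e₂) : Matrix ι ι F) * b') * (B e₁ e₂ : Matrix ι ι F) = _
    rw [mul_assoc, hK.comm b' hb' _ (B e₁ e₂).2, hbb, mul_one]
  -- `ℓ - k` vanishes
  have hsub : ∀ u v, B u (ℓ *ᵥ v) = k * B u v := by
    intro u v
    obtain ⟨a, b, rfl⟩ := hspan u
    obtain ⟨c, d, rfl⟩ := hspan v
    have hℓe : ℓ *ᵥ ((c : Matrix ι ι F) *ᵥ e₁ + (d : Matrix ι ι F) *ᵥ e₂) =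
        (c : Matrix ι ι F) *ᵥ (ℓ *ᵥ e₁) + (d : Matrix ι ι F) *ᵥ (ℓ *ᵥ e₂) := by
      rw [Matrix.mulVec_add, Matrix.mulVec_mulVec, Matrix.mulVec_mulVec, hℓ c c.2, hℓ d d.2,
        ← Matrix.mulVec_mulVec, ← Matrix.mulVec_mulVec]
    rw [hℓe, hadd_l, hadd_r, hadd_r, hadd_l, hadd_r, hadd_r, hB]
    simp only [kForm_smul_left, kForm_smul_right hK hτ hf hsa]
    rw [← hB, hBl, hBl, hBl2 e₂ e₁, ← hk, hBB, hBB, hBsymm e₂ e₁]
    have hcomm : ∀ x y : K, x * y = y * x := fun x y => Subtype.ext (hK.comm x x.2 y y.2)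
    have e1 : ∀ x y z : K, x * (y * (k * z)) = k * (x * (y * z)) := by
      intro x y z
      rw [← mul_assoc y, hcomm y k, mul_assoc, ← mul_assoc x, hcomm x k, mul_assoc]
    simp only [mul_zero, zero_add, add_zero, mul_add]
    rw [e1, e1]
  have hzero : ∀ u v, f u ((ℓ - (k : Matrix ι ι F)) *ᵥ v) = 0 := by
    intro u v
    apply form_eq_zero_of_kForm hK hτ hf
    have h3 : (ℓ - (k : Matrix ι ι F)) *ᵥ v = ℓ *ᵥ v + ((-k : K) : Matrix ι ι F) *ᵥ v := by
      rw [Matrix.sub_mulVec, sub_eq_add_neg, ← Matrix.neg_mulVec]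
      rfl
    rw [h3, kForm_add_right, kForm_smul_right hK hτ hf hsa]
    show B u (ℓ *ᵥ v) + -k * B u v = 0
    rw [hsub]
    apply Subtype.ext
    show (k : Matrix ι ι F) * (B u v : Matrix ι ι F) + -(k : Matrix ι ι F) * (B u v : Matrix ι ι F) = 0
    rw [neg_mul, add_neg_cancel]
  have heq : ℓ - (k : Matrix ι ι F) = 0 := by
    apply Matrix.toLin'.injective
    apply LinearMap.ext
    intro v
    rw [Matrix.toLin'_apply, map_zero, LinearMap.zero_apply]
    by_contra hne
    obtain ⟨x, hx⟩ := (hnd _ hne).1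
    exact hx (hzero x v)
  rw [sub_eq_zero.1 heq]
  exact k.2

/-- Existence of an element of the centraliser representing `Q` (characteristic two). -/
theorem exists_repr_two [Nonempty ι] [Finite F] {Q : (ι → F) → F} (hQ : IsNondegenerateQuadraticForm Q)
    (h2 : (2 : F) = 0) {r : ℕ}
    {K : Subalgebra F (Matrix ι ι F)} (hK : IsFieldSubalgebra r K) (hsa : IsSelfAdjointFor (polar Q) K) :
    ∃ ℓ : Matrix ι ι F, (∀ k ∈ K, ℓ * k = k * ℓ) ∧ ∀ v, polar Q v (ℓ *ᵥ v) = Q v := by
  have hf := hQ.polar_bilinear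
  have halt : ∀ v, polar Q v v = 0 := fun v => by rw [polar_self_two hQ, h2, zero_mul]
  have hself := form_self_eq_zero_two halt h2 hK hsa
  obtain ⟨τ, hτ⟩ := exists_tau K
  let _ : Field K := (H912.isField_of_fieldSub hK).toField
  have : Finite K := Module.finite_of_finite F
  have h20 : (2 : K) = 0 := by
    have : (2 : K) = algebraMap F K 2 := by rw [map_ofNat]
    rw [this, h2, map_zero]
  choose sq hsq using exists_sq (F := K) h20
  have sq_add : ∀ a b : K, sq (a + b) = sq a + sq b := fun a b => sq_inj_of_two h20 (by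
    rw [hsq]
    have : (sq a + sq b) ^ 2 = sq a ^ 2 + sq b ^ 2 + 2 * (sq a * sq b) := by ring
    rw [this, hsq, hsq, h20]; ring)
  have sq_mul : ∀ a b : K, sq (a * b ^ 2) = sq a * b := fun a b => sq_inj_of_two h20 (by
    rw [hsq, mul_pow, hsq])
  have sq_one : sq 1 = 1 := sq_inj_of_two h20 (by rw [hsq, one_pow])
  have sq_smul : ∀ (c : F) (k : K), ∃ d : F, d ^ 2 = c ∧ sq (c • k) = d • sq k := by
    intro c k
    obtain ⟨d, hd⟩ := exists_sq h2 c
    refine ⟨d, hd, sq_inj_of_two h20 ?_⟩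
    rw [hsq, ← hd, Algebra.smul_def, Algebra.smul_def, mul_pow, hsq, map_pow]
  -- the functional `k ↦ Q (√k v)`
  let T : (ι → F) → K →ₗ[F] F := fun v =>
    { toFun := fun k => Q ((sq k : Matrix ι ι F) *ᵥ v)
      map_add' := by
        intro k k'
        rw [sq_add]
        show Q (((sq k : Matrix ι ι F) + (sq k' : Matrix ι ι F)) *ᵥ v) = _
        rw [Matrix.add_mulVec, Q_add' Q, hsa (sq k) (sq k).2, Matrix.mulVec_mulVec, polar_comm,
          hself _ (K.mul_mem (sq k).2 (sq k').2), add_zero]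
      map_smul' := by
        intro c k
        obtain ⟨d, hd, hd'⟩ := sq_smul c k
        rw [hd']
        show Q ((d • (sq k : Matrix ι ι F)) *ᵥ v) = _
        rw [Matrix.smul_mulVec, hQ.smul, hd]
        rfl }
  have hT : ∀ v k, T v k = Q ((sq k : Matrix ι ι F) *ᵥ v) := fun v k => rfl
  let qK : (ι → F) → K := fun v => (dualEquiv hK hτ).symm (T v)
  have hqK : ∀ v k, τ (k * qK v) = Q ((sq k : Matrix ι ι F) *ᵥ v) := by
    intro v k
    have h : dualMap τ (qK v) = T v := (dualEquiv hK hτ).apply_symm_apply _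
    exact congrArg (fun g => g k) h
  have hqKu : ∀ v (c : K), (∀ k : K, τ (k * c) = Q ((sq k : Matrix ι ι F) *ᵥ v)) → qK v = c := by
    intro v c h
    apply dualMap_injective hK hτ
    ext1 k
    rw [dualMap_apply, dualMap_apply, h, hqK]
  have hpolar : ∀ u v, qK (u + v) = qK u + qK v + kForm hK hτ hf u v := by
    intro u v
    apply hqKu
    intro k
    rw [mul_add, mul_add, map_add, map_add, hqK, hqK, kForm_spec, Matrix.mulVec_add, Q_add' Q]
    congr 1
    have h1 : (k : Matrix ι ι F) = (sq k : Matrix ι ι F) * (sq k : Matrix ι ι F) := by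
      have := congrArg Subtype.val (hsq k)
      rw [pow_two] at this
      exact this.symm
    rw [← hsa (sq k) (sq k).2 (((sq k : K) : Matrix ι ι F) *ᵥ u) v]
    rw [Matrix.mulVec_mulVec, ← h1]
  have hsmul : ∀ (a : K) v, qK ((a : Matrix ι ι F) *ᵥ v) = a * a * qK v := by
    intro a v
    apply hqKu
    intro k
    have h1 : k * (a * a * qK v) = (k * a ^ 2) * qK v := by ring
    rw [h1, hqK, sq_mul, Matrix.mulVec_mulVec]
    rfl
  let QK : QuadraticForm K (ι → F) := QuadraticMap.ofPolar qK (fun a v => hsmul a v)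
    (fun x x' y => by
      have hp : ∀ u v, polar qK u v = kForm hK hτ hf u v := fun u v => by
        simp only [polar, hpolar]; abel
      rw [hp, hp, hp, kForm_add_left])
    (fun a x y => by
      have hp : ∀ u v, polar qK u v = kForm hK hτ hf u v := fun u v => by
        simp only [polar, hpolar]; abel
      rw [hp, hp]
      exact kForm_smul_left hK hτ hf a x y)
  obtain ⟨g, hg⟩ := LinearMap.BilinMap.toQuadraticMap_surjective QK
  have hgg : ∀ v, g v v = qK v := fun v => by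
    have := congrArg (fun q => q v) hg
    exact this
  -- the bilinear forms over `F`
  let B₁ : LinearMap.BilinForm F (ι → F) := LinearMap.mk₂ F (fun u v => τ (g u v))
    (fun u u' v => by rw [map_add, LinearMap.add_apply, map_add])
    (fun c u v => by
      have : c • u = (algebraMap F K c) • u := by rw [algebraMap_smul]
      rw [this, map_smul, LinearMap.smul_apply, algebraMap_smul, map_smul])
    (fun u v v' => by rw [map_add, map_add])
    (fun c u v => by
      have : c • v = (algebraMap F K c) • v := by rw [algebraMap_smul]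
      rw [this, map_smul, algebraMap_smul, map_smul])
  let B₂ : LinearMap.BilinForm F (ι → F) := LinearMap.mk₂ F (fun u v => polar Q u v)
    hf.add_left hf.smul_left hf.add_right hf.smul_right
  have hB₂ : B₂.Nondegenerate := by
    refine ⟨fun v hv => ?_, fun v hv => ?_⟩
    · by_contra h
      obtain ⟨x, hx⟩ := (hQ.nondegenerate v h).2
      exact hx (hv x)
    · by_contra h
      obtain ⟨x, hx⟩ := (hQ.nondegenerate v h).1
      exact hx (hv x)
  let L := B₁.symmCompOfNondegenerate B₂ hB₂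
  have hL : ∀ v w, polar Q (L w) v = τ (g w v) := fun v w =>
    LinearMap.BilinForm.symmCompOfNondegenerate_left_apply B₁ hB₂ v w
  have hLm : ∀ v, LinearMap.toMatrix' L *ᵥ v = L v := fun v => LinearMap.toMatrix'_mulVec L v
  refine ⟨LinearMap.toMatrix' L, fun k hk => ?_, fun v => ?_⟩
  · apply Matrix.toLin'.injective
    apply LinearMap.ext
    intro w
    rw [Matrix.toLin'_apply, Matrix.toLin'_apply, ← Matrix.mulVec_mulVec, ← Matrix.mulVec_mulVec, hLm, hLm]
    rw [← sub_eq_zero]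
    by_contra hne
    obtain ⟨x, hx⟩ := (hQ.nondegenerate _ hne).2
    apply hx
    have h1 : polar Q (L (k *ᵥ w)) x = polar Q (k *ᵥ L w) x := by
      rw [hL, hsa k hk, hL]
      have e1 : g (k *ᵥ w) x = (⟨k, hk⟩ : K) • g w x := by
        have : k *ᵥ w = (⟨k, hk⟩ : K) • w := rfl
        rw [this, map_smul, LinearMap.smul_apply]
      have e2 : g w (k *ᵥ x) = (⟨k, hk⟩ : K) • g w x := by
        have : k *ᵥ x = (⟨k, hk⟩ : K) • x := rfl
        rw [this, map_smul]
      rw [e1, e2]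
    rw [sub_eq_add_neg, ← neg_one_smul F, hf.add_left, hf.smul_left, h1]
    ring
  · rw [hLm, polar_comm, hL, hgg]
    have h1 := hqK v 1
    rw [one_mul, sq_one] at h1
    rw [h1]
    show Q ((1 : Matrix ι ι F) *ᵥ v) = Q v
    rw [Matrix.one_mulVec]

/-- **Half-degree fields, characteristic two.** -/
theorem half_cases_two [Nonempty ι] [Finite F] {Q : (ι → F) → F} (hQ : IsNondegenerateQuadraticForm Q)
    (h2 : (2 : F) = 0) {H : Subgroup (GL ι F)} (hirr : ActsIrreducibly (matrixSet H))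
    (hH : H ≤ Cfsg.isometryGroup F Q)
    {r : ℕ} {K : Subalgebra F (Matrix ι ι F)} (hK : IsFieldSubalgebra r K) (hsa : IsSelfAdjointFor (polar Q) K)
    (hn : Fintype.card ι = 2 * r) (hN : H ≤ subalgebraNormalizer K) :
    (∃ (t m : ℕ) (D : Fin t → Submodule F (ι → F)), IsNondegenerateMDecomposition (polar Q) m D ∧
      H ≤ decompositionStabilizer D ∧
      (∀ i j, ∃ h ∈ H, (D i).map (Matrix.toLin' (h : Matrix ι ι F)) = D j)) ∨
    (∃ (m : ℕ) (D : Fin 2 → Submodule F (ι → F)), IsMDecomposition m D ∧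
      (∀ i, IsTotallySingularFor (polar Q) (D i)) ∧ H ≤ decompositionStabilizer D) ∨
    (∃ K₂ : Subalgebra F (Matrix ι ι F), IsFieldSubalgebra 2 K₂ ∧
      IsAdjointClosedFor (polar Q) K₂ ∧ H ≤ subalgebraNormalizer K₂) := by
  have hf := hermForm_polar hQ
  have hb := hQ.polar_bilinear
  have hsymm : ∀ u v, polar Q u v = polar Q v u := fun u v => polar_comm Q u v
  have halt : ∀ v, polar Q v v = 0 := fun v => by rw [polar_self_two hQ, h2, zero_mul]
  have hself := form_self_eq_zero_two halt h2 hK hsa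
  obtain ⟨ℓ₀, hℓ₀, hℓ₀Q⟩ := exists_repr_two hQ h2 hK hsa
  let S : Set (Matrix ι ι F) := {ℓ | (∀ k ∈ K, ℓ * k = k * ℓ) ∧ ∃ s ∈ K, ∀ v, polar Q v (ℓ *ᵥ v) = Q (s *ᵥ v)}
  have hKS : ∀ k ∈ K, k ∈ S := fun k hk => ⟨fun l hl => hK.comm k hk l hl, 0, K.zero_mem, fun v => by
    rw [Matrix.zero_mulVec, Q_zero hQ, polar_comm, hself k hk]⟩
  have hScomm : ∀ y ∈ S, ∀ z ∈ S, y * z = z * y := by
    rintro y ⟨hy, s, hs, hys⟩ z ⟨hz, s', hs', hzs⟩
    by_cases hs0 : s = 0
    · have hyK : y ∈ K := mem_of_alt_two hb hsymm hQ.nondegenerate halt h2 hK hsa hn hy (fun v => by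
        rw [hys, hs0, Matrix.zero_mulVec, Q_zero hQ])
      exact (hz y hyK).symm
    · obtain ⟨i, hi, hsi⟩ := hK.inv s hs hs0
      -- `t = s' s⁻¹`, `k = t²`
      have ht : s' * i ∈ K := K.mul_mem hs' hi
      set t := s' * i with htdef
      have hst : s * t = s' := by
        rw [htdef, ← mul_assoc, hK.comm s hs s' hs', mul_assoc, hsi, mul_one]
      have hzK : z - (t * t) * y ∈ K := by
        refine mem_of_alt_two hb hsymm hQ.nondegenerate halt h2 hK hsa hn (fun k hk => ?_) (fun v => ?_)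
        · have e1 : (t * t) * y * k = k * ((t * t) * y) := by
            calc (t * t) * y * k = (t * t) * (y * k) := mul_assoc _ _ _
              _ = (t * t) * (k * y) := by rw [hy k hk]
              _ = ((t * t) * k) * y := (mul_assoc _ _ _).symm
              _ = (k * (t * t)) * y := by rw [hK.comm (t * t) (K.mul_mem ht ht) k hk]
              _ = k * ((t * t) * y) := mul_assoc _ _ _
          rw [sub_mul, mul_sub, hz k hk, e1]
        · have h1 : polar Q v (((t * t) * y) *ᵥ v) = Q (s' *ᵥ v) := by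
            have h3 : ((t * t) * y) *ᵥ v = t *ᵥ (y *ᵥ (t *ᵥ v)) := by
              have e4 : (t * t) * y = t * (y * t) := by rw [hy t ht, mul_assoc]
              rw [e4, Matrix.mulVec_mulVec, Matrix.mulVec_mulVec, mul_assoc t y t]
            rw [h3, ← hsa t ht, hys, Matrix.mulVec_mulVec, hst]
          rw [Matrix.sub_mulVec, sub_eq_add_neg, ← neg_one_smul F, hb.add_right, hb.smul_right, h1, hzs]
          ring
      have h1 : z = (z - (t * t) * y) + (t * t) * y := by abel
      rw [h1, mul_add, add_mul, ← hy _ hzK]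
      congr 1
      rw [← mul_assoc, hy _ (K.mul_mem ht ht), mul_assoc]
  have hSconj : ∀ h ∈ H, ∀ s ∈ S, (h : Matrix ι ι F) * s * ((h⁻¹ : GL ι F) : Matrix ι ι F) ∈ S := by
    rintro h hh y ⟨hy, s, hs, hys⟩
    refine ⟨conj_centralizes (hN hh) hy, _, (hN hh s).1 hs, fun v => ?_⟩
    have hgi : (h : Matrix ι ι F) *ᵥ (((h⁻¹ : GL ι F) : Matrix ι ι F) *ᵥ v) = v := by
      rw [Matrix.mulVec_mulVec, ← Units.val_mul, mul_inv_cancel, Units.val_one, Matrix.one_mulVec]
    have e2 : polar Q v (((h : Matrix ι ι F) * y * ((h⁻¹ : GL ι F) : Matrix ι ι F)) *ᵥ v) =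
        polar Q ((h : Matrix ι ι F) *ᵥ (((h⁻¹ : GL ι F) : Matrix ι ι F) *ᵥ v))
          ((h : Matrix ι ι F) *ᵥ (y *ᵥ (((h⁻¹ : GL ι F) : Matrix ι ι F) *ᵥ v))) := by
      rw [hgi, Matrix.mulVec_mulVec, Matrix.mulVec_mulVec, mul_assoc]
    have e3 : Q (((h : Matrix ι ι F) * s * ((h⁻¹ : GL ι F) : Matrix ι ι F)) *ᵥ v) =
        Q ((h : Matrix ι ι F) *ᵥ (s *ᵥ (((h⁻¹ : GL ι F) : Matrix ι ι F) *ᵥ v))) := by
      rw [Matrix.mulVec_mulVec, Matrix.mulVec_mulVec, mul_assoc]
    rw [e2, e3, polar_iso (hH hh), hys, H925.mem_iso_iff.1 (hH hh)]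
  have hSadj : ∀ s ∈ S, adjM (RingEquiv.refl F) (polar Q) s ∈ S := by
    rintro y ⟨hy, s, hs, hys⟩
    refine ⟨fun k hk => ?_, s, hs, fun v => ?_⟩
    · have h1 := congrArg (adjM (RingEquiv.refl F) (polar Q)) (hy k hk)
      rw [adjM_mul hf, adjM_mul hf, adjM_eq hf (hsa k hk)] at h1
      exact h1.symm
    · rw [← isAdj_adjM hf y v v, polar_comm, hys]
  refine comm_over hf hirr (fun g hg u v => polar_iso (hH hg) u v) (le_normalizer_adjoin_set hSconj)
    (adjoin_comm hScomm) (adjointClosed_adjoin hf hSadj) hK hn ?_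
  refine lt_of_le_of_ne (fun y hy => Algebra.subset_adjoin (hKS y hy)) (fun heq => ?_)
  have hℓK : ℓ₀ ∈ K := by
    rw [heq]
    exact Algebra.subset_adjoin ⟨hℓ₀, 1, K.one_mem, fun v => by rw [hℓ₀Q, Matrix.one_mulVec]⟩
  have hQ0 : ∀ v, Q v = 0 := fun v => by rw [← hℓ₀Q, polar_comm, hself ℓ₀ hℓK]
  obtain ⟨i⟩ := (inferInstance : Nonempty ι)
  have hne : (Pi.single i 1 : ι → F) ≠ 0 := by
    intro h
    have := congrFun h i
    simp at this
  obtain ⟨y, hy⟩ := (hQ.nondegenerate _ hne).2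
  apply hy
  simp only [polar, hQ0, sub_zero]

/-- **Half-degree fields**: every characteristic, for an irreducible group of isometries of `Q` normalising an
adjoint-closed field subalgebra of odd degree `r`, `card ι = 2 r`. -/
theorem half_degree [Nonempty ι] [Finite F] {Q : (ι → F) → F} (hQ : IsNondegenerateQuadraticForm Q)
    {H : Subgroup (GL ι F)} (hirr : ActsIrreducibly (matrixSet H)) (hH : H ≤ Cfsg.isometryGroup F Q)
    {r : ℕ} {K : Subalgebra F (Matrix ι ι F)} (hK : IsFieldSubalgebra r K) (hsa : IsSelfAdjointFor (polar Q) K)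
    (hn : Fintype.card ι = 2 * r) (hN : H ≤ subalgebraNormalizer K) :
    (∃ (t m : ℕ) (D : Fin t → Submodule F (ι → F)), IsNondegenerateMDecomposition (polar Q) m D ∧
      H ≤ decompositionStabilizer D ∧
      (∀ i j, ∃ h ∈ H, (D i).map (Matrix.toLin' (h : Matrix ι ι F)) = D j)) ∨
    (∃ (m : ℕ) (D : Fin 2 → Submodule F (ι → F)), IsMDecomposition m D ∧
      (∀ i, IsTotallySingularFor (polar Q) (D i)) ∧ H ≤ decompositionStabilizer D) ∨
    (∃ K₂ : Subalgebra F (Matrix ι ι F), IsFieldSubalgebra 2 K₂ ∧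
      IsAdjointClosedFor (polar Q) K₂ ∧ H ≤ subalgebraNormalizer K₂) := by
  by_cases h2 : (2 : F) = 0
  · exact half_cases_two hQ h2 hirr hH hK hsa hn hN
  · exact half_cases (hermForm_polar hQ) h2 hirr (fun g hg u v => polar_iso (hH hg) u v) hK hsa hn hN

end Cfsg.Agent.H926
end
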